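import Groth.Prelude.Def_Formal2
import Groth.Agent.H10Coh.TildeExact
import Groth.Agent.H10Coh.SchemeH
import Mathlib.Algebra.Homology.DerivedCategory.Ext.ExactSequences
import Mathlib.RingTheory.Filtration

/-! Left exactness and functoriality of the sections `Formal2.HV _ _ 0`. -/

set_option autoImplicit false
set_option linter.style.haveILetI false

universe u

open CategoryTheory CategoryTheory.Limits AlgebraicGeometry Opposite CategoryTheory.Abelian

namespace Groth.Agent.H24Formal2

attribute [local instance 10000] H10Coh.hasSheafifyAb H10Coh.hasWeakSheafifyAb H10Coh.hasExtAb H10Coh.enoughInjAb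

variable (A : Type u) [CommRing A]
variable {M N P : Type u} [AddCommGroup M] [Module A M] [AddCommGroup N] [Module A N] [AddCommGroup P] [Module A P]

theorem HVmap_comp (φ : M →ₗ[A] N) (ψ : N →ₗ[A] P) (V : (Spec (CommRingCat.of A)).Opens)
    (x : Formal2.HV A M 0 V) :
    Formal2.HVmap A ψ 0 V (Formal2.HVmap A φ 0 V x) = Formal2.HVmap A (ψ ∘ₗ φ) 0 V x := by
  have h : (SheafOfModules.toSheaf _).map (Formal2.tmodMap A φ) ≫
      (SheafOfModules.toSheaf _).map (Formal2.tmodMap A ψ) =
      (SheafOfModules.toSheaf _).map (Formal2.tmodMap A (ψ ∘ₗ φ)) :=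
    ((SheafOfModules.toSheaf _).map_comp _ _).symm.trans (congrArg (SheafOfModules.toSheaf _).map
      ((tilde.functor (CommRingCat.of A)).map_comp (ModuleCat.ofHom φ) (ModuleCat.ofHom ψ)).symm)
  exact (ConcreteCategory.congr_hom
    (congrArg (fun m => NatTrans.app m (op V)) ((Sheaf.cohomologyPresheafFunctor (Opens.grothendieckTopology (Spec (CommRingCat.of A)).toTopCat) 0).map_comp
      ((SheafOfModules.toSheaf _).map (Formal2.tmodMap A φ)) ((SheafOfModules.toSheaf _).map (Formal2.tmodMap A ψ)))) x).symm.trans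
    (ConcreteCategory.congr_hom (congrArg (fun m => NatTrans.app ((Sheaf.cohomologyPresheafFunctor (Opens.grothendieckTopology (Spec (CommRingCat.of A)).toTopCat) 0).map m) (op V)) h) x)

theorem HVmap_congr {N' : Type u} [AddCommGroup N'] [Module A N'] {φ : M →ₗ[A] N} {ψ : N →ₗ[A] P}
    {φ' : M →ₗ[A] N'} {ψ' : N' →ₗ[A] P} (e : ψ ∘ₗ φ = ψ' ∘ₗ φ') (V : (Spec (CommRingCat.of A)).Opens)
    (x : Formal2.HV A M 0 V) :
    Formal2.HVmap A ψ 0 V (Formal2.HVmap A φ 0 V x) = Formal2.HVmap A ψ' 0 V (Formal2.HVmap A φ' 0 V x) := by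
  rw [HVmap_comp, HVmap_comp, e]

theorem HVres_HVmap (φ : M →ₗ[A] N) {V V' : (Spec (CommRingCat.of A)).Opens} (h : V' ≤ V)
    (x : Formal2.HV A M 0 V) :
    Formal2.HVres A N 0 h (Formal2.HVmap A φ 0 V x) = Formal2.HVmap A φ 0 V' (Formal2.HVres A M 0 h x) :=
  (ConcreteCategory.congr_hom
    (((Sheaf.cohomologyPresheafFunctor (Opens.grothendieckTopology (Spec (CommRingCat.of A)).toTopCat) 0).map ((SheafOfModules.toSheaf _).map (Formal2.tmodMap A φ))).naturality (homOfLE h).op) x).symm

theorem HVres_trans {V V' V'' : (Spec (CommRingCat.of A)).Opens} (h : V' ≤ V) (h' : V'' ≤ V')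
    (x : Formal2.HV A M 0 V) :
    Formal2.HVres A M 0 h' (Formal2.HVres A M 0 h x) = Formal2.HVres A M 0 (h'.trans h) x :=
  (ConcreteCategory.congr_hom
    ((Sheaf.cohomologyPresheaf (Coh.toAb (Formal2.tmod A M)) 0).map_comp (homOfLE h).op (homOfLE h').op) x).symm

theorem mono_toSheaf_tmodMap (φ : M →ₗ[A] N) (hφ : Function.Injective φ) :
    Mono ((SheafOfModules.toSheaf _).map (Formal2.tmodMap A φ)) := by
  haveI : Mono (ModuleCat.ofHom φ) := (ModuleCat.mono_iff_injective _).2 hφ
  haveI := H10Coh.mono_tilde_map (R := CommRingCat.of A) (ModuleCat.ofHom φ)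
  exact (H10Coh.shF (Spec (CommRingCat.of A))).map_mono (tilde.map (R := CommRingCat.of A) (ModuleCat.ofHom φ))

theorem HVmap_injective (φ : M →ₗ[A] N) (hφ : Function.Injective φ) (V : (Spec (CommRingCat.of A)).Opens) :
    Function.Injective (Formal2.HVmap A φ 0 V) := by
  haveI := mono_toSheaf_tmodMap A φ hφ
  exact Ext.postcomp_mk₀_injective_of_mono _ ((SheafOfModules.toSheaf _).map (Formal2.tmodMap A φ))

theorem exists_HVmap_eq (f : M →ₗ[A] N) (g : N →ₗ[A] P) (hf : Function.Injective f) (hg : Function.Surjective g)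
    (hfg : LinearMap.range f = LinearMap.ker g) (V : (Spec (CommRingCat.of A)).Opens) (x : Formal2.HV A N 0 V)
    (hx : Formal2.HVmap A g 0 V x = 0) : ∃ y, Formal2.HVmap A f 0 V y = x := by
  let S : ShortComplex (ModuleCat.{u} A) := ShortComplex.mk (ModuleCat.ofHom f) (ModuleCat.ofHom g)
    (ModuleCat.hom_ext (LinearMap.ext fun m => (hfg.le ⟨m, rfl⟩ : f m ∈ LinearMap.ker g)))
  have hS : S.ShortExact := ShortComplex.ShortExact.mk'
    ((ShortComplex.moduleCat_exact_iff S).2 fun y hy => hfg.ge hy)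
    ((ModuleCat.mono_iff_injective _).2 hf) ((ModuleCat.epi_iff_surjective _).2 hg)
  haveI : PreservesFiniteLimits (tilde.functor (CommRingCat.of A)) :=
    @H10Coh.tilde_preservesFiniteLimits (CommRingCat.of A)
  haveI : PreservesFiniteColimits (tilde.functor (CommRingCat.of A)) :=
    @H10Coh.tilde_preservesFiniteColimits (CommRingCat.of A)
  haveI hadd : (tilde.functor (CommRingCat.of A)).Additive := by
    have : ∀ R : CommRingCat.{u}, (tilde.functor R).Additive := fun R => inferInstance
    exact this _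
  have h2 := H10Coh.shortExact_sh (hS.map_of_exact (tilde.functor (CommRingCat.of A)))
  exact Ext.covariant_sequence_exact₂ _ h2 x hx

theorem HVmap_id (V : (Spec (CommRingCat.of A)).Opens) (x : Formal2.HV A M 0 V) :
    Formal2.HVmap A (LinearMap.id : M →ₗ[A] M) 0 V x = x := by
  have h : (SheafOfModules.toSheaf _).map (Formal2.tmodMap A (LinearMap.id : M →ₗ[A] M)) = 𝟙 _ :=
    (congrArg (SheafOfModules.toSheaf _).map
      ((tilde.functor (CommRingCat.of A)).map_id (ModuleCat.of A M))).trans ((SheafOfModules.toSheaf _).map_id _)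
  exact (ConcreteCategory.congr_hom (congrArg (fun m => NatTrans.app
      ((Sheaf.cohomologyPresheafFunctor (Opens.grothendieckTopology (Spec (CommRingCat.of A)).toTopCat) 0).map m) (op V)) h) x).trans
    (ConcreteCategory.congr_hom (congrArg (fun m => NatTrans.app m (op V))
      ((Sheaf.cohomologyPresheafFunctor (Opens.grothendieckTopology (Spec (CommRingCat.of A)).toTopCat) 0).map_id _)) x)

theorem HVmap_zero (V : (Spec (CommRingCat.of A)).Opens) (x : Formal2.HV A M 0 V) :
    Formal2.HVmap A (0 : M →ₗ[A] N) 0 V x = 0 := by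
  let Z : Type u := PUnit
  have h : Subsingleton (Formal2.HV A Z 0 V) := by
    refine ⟨fun a b => ?_⟩
    have e : (LinearMap.id : Z →ₗ[A] Z) = 0 := LinearMap.ext fun _ => rfl
    have hz : IsZero ((SheafOfModules.toSheaf _).obj (Formal2.tmod A Z)) := by
      have hadd : ∀ R : CommRingCat.{u}, (tilde.functor R).Additive := fun R => inferInstance
      haveI := hadd (CommRingCat.of A)
      exact (SheafOfModules.toSheaf _).map_isZero ((tilde.functor (CommRingCat.of A)).map_isZero
        (ModuleCat.isZero_of_subsingleton _))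
    exact Ext.addEquiv₀.injective (hz.eq_of_tgt _ _)
  rw [show (0 : M →ₗ[A] N) = (0 : Z →ₗ[A] N) ∘ₗ (0 : M →ₗ[A] Z) from rfl, ← HVmap_comp,
    Subsingleton.elim (Formal2.HVmap A (0 : M →ₗ[A] Z) 0 V x) 0, map_zero]

end Groth.Agent.H24Formal2
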