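import Groth.Agent.H24Formal.SpecComplete
import Groth.Agent.H24Formal.Pullback
import Groth.Agent.H24Formal2.SectionsH0
import Groth.Agent.H28NT.Connectedness
import Groth.Prelude.Def_Formal2

/-!
# The completion of the structure module of a punctured spectrum, through `tilde`
-/

set_option autoImplicit false
set_option linter.style.haveILetI false
set_option linter.unusedSectionVars false

universe u

open CategoryTheory CategoryTheory.Limits AlgebraicGeometry Opposite TopologicalSpace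

namespace Groth.Agent.H24Formal2.Bridge

variable (A : Type u) [CommRing A] [IsNoetherianRing A] (I : Ideal A) (U : (Spec (CommRingCat.of A)).Opens)

local notation "RA" => CommRingCat.of A
local notation "rF" => Scheme.Modules.restrictFunctor (Scheme.Opens.ι U)

/-- `tilde` followed by restriction to `U`. -/
noncomputable abbrev tU : ModuleCat.{u} A ⥤ (U : Scheme.{u}).Modules := tilde.functor RA ⋙ rF

instance : (tU A U).Additive := by
  haveI : (Scheme.Modules.restrictFunctor U.ι).Additive :=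
    (Scheme.Modules.restrictAdjunction U.ι).left_adjoint_additive
  infer_instance

theorem map_smul_id (a : A) [(Spec RA).Over (Spec RA)] (hover : (Spec RA) ↘ (Spec RA) = 𝟙 _) (M : ModuleCat.{u} A) :
    tilde.map (R := RA) (ModuleCat.ofHom (a • LinearMap.id : M →ₗ[A] M)) = Formal.smulMod A (tilde (R := RA) M) a := by
  let adj := tilde.adjunction (R := RA)
  apply (adj.homEquiv _ _).injective
  refine (Adjunction.homEquiv_unit adj _ _ _).trans ((adj.unit.naturality _).symm.trans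
    (Eq.trans ?_ (Adjunction.homEquiv_unit adj _ _ _).symm))
  refine ModuleCat.hom_ext (LinearMap.ext fun m => ?_)
  show (adj.unit.app M).hom (a • m) = (Formal.smulMod A (tilde (R := RA) M) a).app ⊤ ((adj.unit.app M).hom m)
  refine (map_smul (adj.unit.app M).hom a m).trans ?_
  refine Eq.trans ?_ (H24Formal.smulMod_app (tilde (R := RA) M) a ⊤ ((adj.unit.app M).hom m)).symm
  simp only [H24Formal.scalA, Coh.toGlobal, hover]
  rfl

/-- Scalars commute with restriction. -/
theorem restrict_map_smulMod (a : A) [(Spec RA).Over (Spec RA)] (hover : (Spec RA) ↘ (Spec RA) = 𝟙 _)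
    (M : (Spec RA).Modules) :
    (rF).map (Formal.smulMod A M a) = Formal.smulMod A ((rF).obj M) a := by
  have h : U.ι ≫ (Spec RA ↘ Spec RA) = (U : Scheme.{u}) ↘ Spec RA := by rw [hover, Category.comp_id]; rfl
  let e := Scheme.Modules.restrictFunctorIsoPullback U.ι
  have h1 : (Scheme.Modules.pullback U.ι).map (Formal.smulMod A M a) =
      Formal.smulMod A ((Scheme.Modules.pullback U.ι).obj M) a := H24Formal.pullback_map_smulMod U.ι h M a
  refine (cancel_mono (e.hom.app M)).1 ?_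
  rw [e.hom.naturality, h1, H24Formal.smulMod_comm]

/-- The structure module of `U` is the restriction of `A~`. -/
noncomputable def unitIso : Coh.structureModule (U : Scheme.{u}) ≅ (tU A U).obj (ModuleCat.of A A) :=
  (Scheme.Modules.restrictUnitIso U.ι).symm ≪≫ (rF).mapIso (tildeSelf (R := RA)).symm

/-- The truncations of the structure module of `U` are the restrictions of the `(A/I^k)~`. -/
theorem exists_levelIso (k : ℕ) :
    ∃ θ : Formal.modPow I k (Coh.structureModule (U : Scheme.{u})) ≅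
        (tU A U).obj (ModuleCat.of A (A ⧸ (I ^ k • (⊤ : Submodule A A)))),
      Formal.modPowπ I k (Coh.structureModule (U : Scheme.{u})) ≫ θ.hom =
        (unitIso A U).hom ≫ (tU A U).map (ModuleCat.ofHom (I ^ k • (⊤ : Submodule A A)).mkQ) := by
  letI : (Spec RA).Over (Spec RA) := ⟨𝟙 _⟩
  have hover : (Spec RA) ↘ (Spec RA) = 𝟙 _ := rfl
  let K : Submodule A A := I ^ k • ⊤
  let O := Coh.structureModule (U : Scheme.{u})
  have hsm : ∀ (a : A) (M : ModuleCat.{u} A), (tU A U).map (ModuleCat.ofHom (a • LinearMap.id : M →ₗ[A] M)) =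
      Formal.smulMod A ((tU A U).obj M) a := fun a M =>
    (congrArg (rF).map (map_smul_id A a hover M)).trans (restrict_map_smulMod A U a hover _)
  -- the projection kills `I^k`
  have hz : Formal.smulFamily (I ^ k) O ≫ (unitIso A U).hom ≫ (tU A U).map (ModuleCat.ofHom K.mkQ) = 0 := by
    refine Sigma.hom_ext _ _ fun b => ?_
    rw [Formal.smulFamily, Sigma.ι_desc_assoc, comp_zero, ← Category.assoc, H24Formal.smulMod_comm, Category.assoc,
      ← hsm, ← (tU A U).map_comp]
    have h0 : ModuleCat.ofHom (b.1 • LinearMap.id : A →ₗ[A] A) ≫ ModuleCat.ofHom K.mkQ = 0 :=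
      ModuleCat.hom_ext (LinearMap.ext fun x => (Submodule.Quotient.mk_eq_zero K).2
        (Submodule.smul_mem_smul b.2 Submodule.mem_top))
    rw [h0, (tU A U).map_zero, comp_zero]
  -- the restriction of the quotient is a cokernel of the restriction of the inclusion
  let T : ShortComplex (ModuleCat.{u} A) := ShortComplex.mk (ModuleCat.ofHom K.subtype) (ModuleCat.ofHom K.mkQ)
    (ModuleCat.hom_ext (LinearMap.ext fun x => (Submodule.Quotient.mk_eq_zero K).2 x.2))
  have hT : T.ShortExact := ShortComplex.ShortExact.mk' (S := T)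
    ((ShortComplex.moduleCat_exact_iff T).2 fun x hx => ⟨⟨x, (Submodule.Quotient.mk_eq_zero K).1 hx⟩, rfl⟩)
    ((ModuleCat.mono_iff_injective _).2 Subtype.val_injective)
    ((ModuleCat.epi_iff_surjective _).2 (Submodule.mkQ_surjective K))
  haveI : PreservesColimitsOfSize.{0, 0} rF := inferInstance
  haveI : PreservesFiniteColimits (tU A U) := comp_preservesFiniteColimits _ _
  have hc : IsColimit (CokernelCofork.ofπ ((tU A U).map T.g)
      (by rw [← (tU A U).map_comp, T.zero, (tU A U).map_zero] : (tU A U).map T.f ≫ (tU A U).map T.g = 0)) :=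
    CokernelCofork.mapIsColimit _ hT.gIsCokernel (tU A U)
  -- the converse
  have hK : (tU A U).map T.f ≫ (unitIso A U).inv ≫ Formal.modPowπ I k O = 0 := by
    haveI : Module.Finite A K := inferInstance
    obtain ⟨r, s, hs⟩ := Submodule.fg_iff_exists_fin_generating_family.1 (IsNoetherian.noetherian K)
    let Φ : (Fin r → A) →ₗ[A] K := ∑ i, (LinearMap.toSpanSingleton A K ⟨s i, hs.le (Submodule.subset_span ⟨i, rfl⟩)⟩).comp
      (LinearMap.proj i)
    have hΦ : Function.Surjective Φ := fun x => by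
      obtain ⟨c, hc⟩ := (Submodule.mem_span_range_iff_exists_fun A).1 (hs.ge x.2)
      exact ⟨c, Subtype.ext (by simpa [Φ] using hc)⟩
    haveI : Epi (ModuleCat.ofHom Φ) := (ModuleCat.epi_iff_surjective _).2 hΦ
    haveI : Epi ((tU A U).map (ModuleCat.ofHom Φ)) := (tU A U).map_epi _
    rw [← cancel_epi ((tU A U).map (ModuleCat.ofHom Φ)), comp_zero, ← Category.assoc, ← (tU A U).map_comp]
    have hsum : ModuleCat.ofHom Φ ≫ T.f = ∑ i, ModuleCat.ofHom (LinearMap.proj i : (Fin r → A) →ₗ[A] A) ≫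
        ModuleCat.ofHom (s i • LinearMap.id : A →ₗ[A] A) := ModuleCat.hom_ext (LinearMap.ext fun c => by
      simp [Φ, T, ModuleCat.hom_sum, mul_comm])
    rw [hsum, (tU A U).map_sum, Preadditive.sum_comp]
    refine Finset.sum_eq_zero fun i _ => ?_
    have hi : s i ∈ I ^ k := by
      have h := hs.le (Submodule.subset_span ⟨i, rfl⟩)
      simpa [K] using h
    have h9 : (tU A U).map (ModuleCat.ofHom (s i • LinearMap.id : A →ₗ[A] A)) ≫
        ((unitIso A U).inv ≫ Formal.modPowπ I k O) = 0 := by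
      refine (congrArg (· ≫ ((unitIso A U).inv ≫ Formal.modPowπ I k O)) (hsm (s i) (ModuleCat.of A A))).trans ?_
      refine (Category.assoc _ _ _).symm.trans ((congrArg (· ≫ Formal.modPowπ I k O)
        (H24Formal.smulMod_comm (unitIso A U).inv (s i))).trans ?_)
      refine (Category.assoc _ _ _).trans ?_
      exact (congrArg ((unitIso A U).inv ≫ ·) (H24Formal.smulMod_modPowπ_eq_zero I hi O)).trans comp_zero
    rw [(tU A U).map_comp]
    exact (Category.assoc _ _ _).trans ((congrArg ((tU A U).map _ ≫ ·) h9).trans comp_zero)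
  obtain ⟨d, hd⟩ := CokernelCofork.IsColimit.desc' hc ((unitIso A U).inv ≫ Formal.modPowπ I k O) hK
  have hd' : (tU A U).map (ModuleCat.ofHom K.mkQ) ≫ d = (unitIso A U).inv ≫ Formal.modPowπ I k O := hd
  haveI : Epi ((tU A U).map (ModuleCat.ofHom K.mkQ)) := Cofork.IsColimit.epi hc
  refine ⟨⟨cokernel.desc _ _ hz, d, coequalizer.hom_ext ?_, ?_⟩, cokernel.π_desc _ _ _⟩
  · change Formal.modPowπ I k O ≫ cokernel.desc _ _ hz ≫ d = Formal.modPowπ I k O ≫ 𝟙 _
    refine (Category.assoc _ _ _).symm.trans ((congrArg (· ≫ d) (cokernel.π_desc _ _ hz)).trans ?_)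
    refine (Category.assoc _ _ _).trans ((congrArg ((unitIso A U).hom ≫ ·) hd').trans ?_)
    exact ((unitIso A U).hom_inv_id_assoc _).trans (Category.comp_id _).symm
  · refine (cancel_epi ((tU A U).map (ModuleCat.ofHom K.mkQ))).1 ?_
    refine (Category.assoc _ _ _).symm.trans ((congrArg (· ≫ cokernel.desc _ _ hz) hd').trans ?_)
    refine (Category.assoc _ _ _).trans ((congrArg ((unitIso A U).inv ≫ ·) (cokernel.π_desc _ _ hz)).trans ?_)
    exact ((unitIso A U).inv_hom_id_assoc _).trans (Category.comp_id _).symm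

attribute [local instance 10000] H10Coh.hasSheafifyAb H10Coh.hasWeakSheafifyAb H10Coh.hasExtAb H10Coh.enoughInjAb

/-- Sections over `U` of the sheaf of a module, as an abelian group. -/
abbrev Sec (M : ModuleCat.{u} A) : Type u := (Coh.toAb (Formal2.tmod A M)).obj.obj (op U)

omit [IsNoetherianRing A] in
theorem exists_sectIso :
    ∃ se : ∀ (M : ModuleCat.{u} A), Formal2.HV A M 0 U ≃+ Sec A U M,
      ∀ {M N : ModuleCat.{u} A} (φ : M ⟶ N) (z : Formal2.HV A M 0 U),
        se N (Formal2.HVmap A φ.hom 0 U z) = (tilde.map (R := RA) φ).app U (se M z) := by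
  let J := Opens.grothendieckTopology (Spec RA).toTopCat
  refine ⟨fun M => Abelian.Ext.addEquiv₀.trans (CohFree.homEquivSect J U (Coh.toAb (Formal2.tmod A M))), fun {M N} φ z => ?_⟩
  obtain ⟨ψ, hψ⟩ := (Abelian.Ext.mk₀_bijective (CohCx.freeSheaf J U) (Coh.toAb (Formal2.tmod A M))).2 z
  subst hψ
  have h1 : ∀ {F : CohTop.Ab (Spec RA).toTopCat} (g : CohCx.freeSheaf J U ⟶ F),
      Abelian.Ext.addEquiv₀ (Abelian.Ext.mk₀ g) = g := fun g => Abelian.Ext.addEquiv₀.apply_symm_apply g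
  have h2 : Formal2.HVmap A φ.hom 0 U (Abelian.Ext.mk₀ ψ) =
      Abelian.Ext.mk₀ (ψ ≫ (SheafOfModules.toSheaf _).map (Formal2.tmodMap A φ.hom)) := Abelian.Ext.mk₀_comp_mk₀ _ _
  rw [h2]
  refine (congrArg (CohFree.homEquivSect J U (Coh.toAb (Formal2.tmod A N))) (h1 _)).trans
    (Eq.trans ?_ (congrArg (fun g => (tilde.map (R := RA) φ).app U
      (CohFree.homEquivSect J U (Coh.toAb (Formal2.tmod A M)) g)) (h1 ψ)).symm)
  rfl

omit [IsNoetherianRing A] in
theorem exists_topIso :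
    ∃ r : ∀ (M : ModuleCat.{u} A), Γ((tU A U).obj M, ⊤) ≃+ Sec A U M,
      ∀ {M N : ModuleCat.{u} A} (φ : M ⟶ N) (z : Γ((tU A U).obj M, ⊤)),
        r N (((tU A U).map φ).app ⊤ z) = (tilde.map (R := RA) φ).app U (r M z) := by
  have hU : U.ι ''ᵁ ⊤ = U := by simp
  exact ⟨fun M => (((tilde (R := RA) M).presheaf.mapIso (eqToIso hU.symm).op)).addCommGroupIsoToAddEquiv,
    fun φ z => (H11Tilde.app_map_apply (tilde.map (R := RA) φ) (le_of_eq hU.symm) _).symm⟩

omit [IsNoetherianRing A] in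
theorem comb {α₁ β₁ γ₁ δ₁ α₂ β₂ γ₂ δ₂ : Type u} [AddCommGroup α₁] [AddCommGroup β₁] [AddCommGroup γ₁] [AddCommGroup δ₁]
    [AddCommGroup α₂] [AddCommGroup β₂] [AddCommGroup γ₂] [AddCommGroup δ₂]
    (e₁ : α₁ ≃+ β₁) (r₁ : β₁ ≃+ γ₁) (s₁ : δ₁ ≃+ γ₁) (e₂ : α₂ ≃+ β₂) (r₂ : β₂ ≃+ γ₂) (s₂ : δ₂ ≃+ γ₂)
    (fα : α₁ → α₂) (fβ : β₁ → β₂) (fγ : γ₁ → γ₂) (fδ : δ₁ → δ₂) (he : ∀ x, e₂ (fα x) = fβ (e₁ x))
    (hr : ∀ x, r₂ (fβ x) = fγ (r₁ x)) (hs : ∀ x, s₂ (fδ x) = fγ (s₁ x)) (x : α₁) :
    ((e₂.trans r₂).trans s₂.symm) (fα x) = fδ (((e₁.trans r₁).trans s₁.symm) x) := by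
  apply s₂.injective
  simp [he, hr, hs]

/-- Sections of the restriction of `M~` are the degree zero cohomology over `U`. -/
theorem exists_secEquiv :
    ∃ e : ∀ (M : ModuleCat.{u} A), Coh.HH (U : Scheme.{u}) ((tU A U).obj M) 0 ≃+ Formal2.HV A M 0 U,
      ∀ {M N : ModuleCat.{u} A} (φ : M ⟶ N) (x : Coh.HH (U : Scheme.{u}) ((tU A U).obj M) 0),
        e N (Sheaf.H.map ((SheafOfModules.toSheaf _).map ((tU A U).map φ)) 0 x) =
          Formal2.HVmap A φ.hom 0 U (e M x) := by
  obtain ⟨se, hse⟩ := exists_sectIso A U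
  obtain ⟨r, hr⟩ := exists_topIso A U
  refine ⟨fun M => ((H10Coh.HH0Equiv ((tU A U).obj M)).trans (r M)).trans (se M).symm, fun {M N} φ x => ?_⟩
  exact comb (H10Coh.HH0Equiv ((tU A U).obj M)) (r M) (se M) (H10Coh.HH0Equiv ((tU A U).obj N)) (r N) (se N)
    _ _ _ _ (fun y => H28NT.HH0Equiv_map ((tU A U).map φ) y) (hr φ) (hse φ) x

theorem transfer {H₀ G₀ : Type u} {Hn Gn : ℕ → Type u} [AddCommGroup H₀] [AddCommGroup G₀]
    [∀ n, AddCommGroup (Hn n)] [∀ n, AddCommGroup (Gn n)] (E₀ : H₀ ≃+ G₀) (E : ∀ n, Hn n ≃+ Gn n)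
    (p : ∀ n, H₀ →+ Hn n) (t : ∀ n, Hn (n + 1) →+ Hn n) (p' : ∀ n, G₀ →+ Gn n) (t' : ∀ n, Gn (n + 1) →+ Gn n)
    (hp : ∀ n x, E n (p n x) = p' n (E₀ x)) (ht : ∀ n x, E n (t n x) = t' n (E (n + 1) x))
    (hinj : ∀ x x' : G₀, (∀ n, p' n x = p' n x') → x = x')
    (hsurj : ∀ y : ∀ n, Gn n, (∀ n, t' n (y (n + 1)) = y n) → ∃ x, ∀ n, p' n x = y n) :
    (∀ x : H₀, (∀ n, p n x = 0) → x = 0) ∧
      ∀ y : ∀ n, Hn n, (∀ n, t n (y (n + 1)) = y n) → ∃ x, ∀ n, p n x = y n := by
  refine ⟨fun x hx => E₀.injective (hinj _ _ fun n => by rw [← hp, ← hp, hx, map_zero, map_zero, map_zero]),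
    fun y hy => ?_⟩
  obtain ⟨z, hz⟩ := hsurj (fun n => E n (y n)) fun n => by rw [← ht, hy]
  exact ⟨E₀.symm z, fun n => (E n).injective (by rw [hp, E₀.apply_symm_apply, hz])⟩

theorem hEquiv_comm {X : Scheme.{u}} {M N M' N' : X.Modules} (a : M ⟶ N) (i : M ≅ M') (j : N ≅ N') (b : M' ⟶ N')
    (h : a ≫ j.hom = i.hom ≫ b) (x : Coh.HH X M 0) :
    Sheaf.H.map ((SheafOfModules.toSheaf _).map j.hom) 0 (Sheaf.H.map ((SheafOfModules.toSheaf _).map a) 0 x) =
      Sheaf.H.map ((SheafOfModules.toSheaf _).map b) 0 (Sheaf.H.map ((SheafOfModules.toSheaf _).map i.hom) 0 x) := by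
  exact (Formal.HHmap_comp a j.hom 0 x).trans ((congrArg (fun g => Sheaf.H.map ((SheafOfModules.toSheaf _).map g) 0 x) h).trans
    (Formal.HHmap_comp i.hom b 0 x).symm)

theorem bijective_Hmap {X : Scheme.{u}} {M N : X.Modules} (i : M ≅ N) :
    Function.Bijective (Sheaf.H.map ((SheafOfModules.toSheaf _).map i.hom) 0 : Coh.HH X M 0 →+ Coh.HH X N 0) := by
  have hid : ∀ {P : X.Modules} (x : Coh.HH X P 0),
      Sheaf.H.map ((SheafOfModules.toSheaf _).map (𝟙 P)) 0 x = x := fun {P} x =>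
    (H10Coh.HH0Equiv P).injective ((H28NT.HH0Equiv_map (𝟙 P) x).trans rfl)
  exact Function.bijective_iff_has_inverse.2 ⟨Sheaf.H.map ((SheafOfModules.toSheaf _).map i.inv) 0,
    fun x => (Formal.HHmap_comp _ _ 0 x).trans
      ((congrArg (fun g => Sheaf.H.map ((SheafOfModules.toSheaf _).map g) 0 x) i.hom_inv_id).trans (hid x)),
    fun x => (Formal.HHmap_comp _ _ 0 x).trans
      ((congrArg (fun g => Sheaf.H.map ((SheafOfModules.toSheaf _).map g) 0 x) i.inv_hom_id).trans (hid x))⟩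

theorem levelIso_trans (θ : ∀ k, Formal.modPow I k (Coh.structureModule (U : Scheme.{u})) ≅
      (tU A U).obj (ModuleCat.of A (A ⧸ (I ^ k • (⊤ : Submodule A A)))))
    (hθ : ∀ k, Formal.modPowπ I k (Coh.structureModule (U : Scheme.{u})) ≫ (θ k).hom =
        (unitIso A U).hom ≫ (tU A U).map (ModuleCat.ofHom (I ^ k • (⊤ : Submodule A A)).mkQ)) (n : ℕ) :
    Formal.modPowTrans I (n + 1) (Coh.structureModule (U : Scheme.{u})) ≫ (θ (n + 1)).hom =
      (θ (n + 1 + 1)).hom ≫ (tU A U).map (ModuleCat.ofHom (Formal2.quotPowTrans A I A n)) := by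
  have hq : ModuleCat.ofHom (I ^ (n + 1 + 1) • (⊤ : Submodule A A)).mkQ ≫ ModuleCat.ofHom (Formal2.quotPowTrans A I A n) =
      ModuleCat.ofHom (I ^ (n + 1) • (⊤ : Submodule A A)).mkQ :=
    ModuleCat.hom_ext (Submodule.mapQ_mkQ (f := (LinearMap.id : A →ₗ[A] A)) _ _
      (h := (Submodule.smul_mono_left (Ideal.pow_le_pow_right (Nat.le_succ (n + 1)))).trans (Submodule.comap_id _).ge))
  haveI : Epi (Formal.modPowπ I (n + 1 + 1) (Coh.structureModule (U : Scheme.{u}))) := coequalizer.π_epi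
  refine (cancel_epi (Formal.modPowπ I (n + 1 + 1) (Coh.structureModule (U : Scheme.{u})))).1 ?_
  refine (Category.assoc _ _ _).symm.trans ((congrArg (· ≫ (θ (n + 1)).hom) (Formal.modPowπ_trans I (n + 1) _)).trans
    ((hθ (n + 1)).trans (Eq.trans ?_ (Category.assoc _ _ _))))
  refine Eq.trans ?_ (congrArg (· ≫ (tU A U).map _) (hθ (n + 1 + 1))).symm
  refine Eq.trans ?_ (Category.assoc _ _ _).symm
  refine congrArg ((unitIso A U).hom ≫ ·) ?_
  exact (congrArg (tU A U).map hq).symm.trans ((tU A U).map_comp _ _)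

theorem exists_projIso : ∃ (E₀ : Coh.HH (U : Scheme.{u}) (Coh.structureModule (U : Scheme.{u})) 0 ≃+ Formal2.HV A A 0 U)
    (E : ∀ n, Formal.HHmodPow I (Coh.structureModule (U : Scheme.{u})) 0 n ≃+ Formal2.HV A (Formal2.quotPow A I A n) 0 U),
    (∀ n x, E n (Formal.toHHmodPow I (Coh.structureModule (U : Scheme.{u})) 0 n x) =
      Formal2.HVmap A (Formal2.quotPowπ A I A n) 0 U (E₀ x)) ∧
    ∀ n x, E n (Formal.HHmodPowTrans I (Coh.structureModule (U : Scheme.{u})) 0 n x) =
      Formal2.HVmap A (Formal2.quotPowTrans A I A n) 0 U (E (n + 1) x) := by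
  obtain ⟨e, he⟩ := exists_secEquiv A U
  choose θ hθ using fun k => exists_levelIso A I U k
  exact ⟨(AddEquiv.ofBijective _ (bijective_Hmap (unitIso A U))).trans (e (ModuleCat.of A A)),
    fun n => (AddEquiv.ofBijective _ (bijective_Hmap (θ (n + 1)))).trans (e (ModuleCat.of A (Formal2.quotPow A I A n))),
    fun n x => (congrArg (e _) (hEquiv_comm _ (unitIso A U) (θ (n + 1)) _ (hθ (n + 1)) x)).trans
      (he (ModuleCat.ofHom (Formal2.quotPowπ A I A n)) _),
    fun n x => (congrArg (e _) (hEquiv_comm _ (θ (n + 1 + 1)) (θ (n + 1)) _ (levelIso_trans A I U θ hθ n) x)).trans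
      (he (ModuleCat.ofHom (Formal2.quotPowTrans A I A n)) _)⟩

/-- Formal bijectivity in the `tilde` formulation gives it for the structure module of `U`. -/
theorem bijective_toHHlim_structure (h : Formal2.FormalCohBijective A I A 0 U) :
    Function.Bijective (Formal.toHHlim I (Coh.structureModule (U : Scheme.{u})) 0) := by
  obtain ⟨E₀, E, hp, ht⟩ := exists_projIso A I U
  refine ⟨(injective_iff_map_eq_zero _).2 fun x hx => ?_, fun y => ?_⟩
  · refine E₀.injective (h.1 _ _ fun n => ?_)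
    rw [← hp, ← hp]
    exact congrArg (E n) ((congrFun (congrArg Subtype.val hx) n).trans (map_zero _).symm)
  · obtain ⟨z, hz⟩ := h.2 (fun n => E n (y.1 n)) fun n => (ht n _).symm.trans (congrArg (E n) (y.2 n))
    refine ⟨E₀.symm z, Subtype.ext (funext fun n => (E n).injective ?_)⟩
    exact ((hp n _).trans (congrArg _ (E₀.apply_symm_apply z))).trans (hz n)

end Groth.Agent.H24Formal2.Bridge
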