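import Groth.Agent.H24Formal2.PunctSect

/-!
# Killing the cohomology of a punctured spectrum

An element killing `H^{i+1}_a(M)` kills `H^i(U, M~)` for `i ≥ 1`, and the cokernel of `M → H^0(U, M~)` for `i = 0`.
-/

set_option autoImplicit false
set_option linter.style.haveILetI false
set_option linter.unusedSectionVars false

universe u

open CategoryTheory CategoryTheory.Limits AlgebraicGeometry Opposite CategoryTheory.Abelian TopologicalSpace

namespace Groth.Agent.H24Formal2

attribute [local instance 10000] H10Coh.hasSheafifyAb H10Coh.hasWeakSheafifyAb H10Coh.hasExtAb H10Coh.enoughInjAb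

variable (A : Type u) [CommRing A] [IsNoetherianRing A] (a : Ideal A)
variable {M N P : Type u} [AddCommGroup M] [Module A M] [AddCommGroup N] [Module A N] [AddCommGroup P] [Module A P]

local notation "U" => LocCoh.puncturedOpen A a

/-- A module maps to the degree zero cohomology of its sheaf. -/
noncomputable def η (M : Type u) [AddCommGroup M] [Module A M] : M →+ Formal2.HV A M 0 U :=
  ((exists_sectEquiv A U).choose M).symm.toAddMonoidHom.comp (toSm A M U).toAddMonoidHom

theorem sect_η (m : M) : (exists_sectEquiv A U).choose M (η A a M m) = toSm A M U m :=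
  AddEquiv.apply_symm_apply _ _

theorem HVmap_η (φ : M →ₗ[A] N) (m : M) : Formal2.HVmap A φ 0 U (η A a M m) = η A a N (φ m) := by
  refine ((exists_sectEquiv A U).choose N).injective ?_
  rw [(exists_sectEquiv A U).choose_spec, sect_η, sect_η, SmMap_toSm]

theorem η_eq_zero (m : M) : η A a M m = 0 ↔ m ∈ DRing.torsionSub a M := by
  rw [← ker_toSm A a m, ← sect_η A a m, map_eq_zero_iff _ ((exists_sectEquiv A U).choose M).injective]

/-- An element killing `H^1_a` kills the cokernel of `η`. -/
theorem exists_η_eq (c : A) (hc : ∀ x : LocCoh.H a 1 M, c • x = 0) (y : Formal2.HV A M 0 U) :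
    ∃ m : M, η A a M m = Formal2.HVmap A (c • LinearMap.id) 0 U y := by
  obtain ⟨m, hm⟩ := exists_toSm_eq A a c hc ((exists_sectEquiv A U).choose M y)
  refine ⟨m, ((exists_sectEquiv A U).choose M).injective ?_⟩
  rw [(exists_sectEquiv A U).choose_spec, sect_η, SmMap_smul_id, hm]

theorem shortExact_sh_tilde (f : M →ₗ[A] N) (g : N →ₗ[A] P) (hf : Function.Injective f) (hg : Function.Surjective g)
    (hfg : Function.Exact f g) :
    ∃ w, (ShortComplex.mk ((SheafOfModules.toSheaf _).map (Formal2.tmodMap A f))
      ((SheafOfModules.toSheaf _).map (Formal2.tmodMap A g)) w).ShortExact := by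
  let S : ShortComplex (ModuleCat.{u} A) := ShortComplex.mk (ModuleCat.ofHom f) (ModuleCat.ofHom g)
    (ModuleCat.hom_ext (LinearMap.ext fun m => hfg.apply_apply_eq_zero m))
  have hS : S.ShortExact := ShortComplex.ShortExact.mk'
    ((ShortComplex.moduleCat_exact_iff S).2 fun y hy => (hfg y).1 hy)
    ((ModuleCat.mono_iff_injective _).2 hf) ((ModuleCat.epi_iff_surjective _).2 hg)
  haveI : PreservesFiniteLimits (tilde.functor (CommRingCat.of A)) :=
    @H10Coh.tilde_preservesFiniteLimits (CommRingCat.of A)
  haveI : PreservesFiniteColimits (tilde.functor (CommRingCat.of A)) :=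
    @H10Coh.tilde_preservesFiniteColimits (CommRingCat.of A)
  haveI hadd : (tilde.functor (CommRingCat.of A)).Additive := by
    have : ∀ R : CommRingCat.{u}, (tilde.functor R).Additive := fun R => inferInstance
    exact this _
  exact ⟨_, H10Coh.shortExact_sh (hS.map_of_exact (tilde.functor (CommRingCat.of A)))⟩

/-- The endomorphism of a short complex of sheaves given by a scalar. -/
noncomputable def smulHomSh (c : A) (f : M →ₗ[A] N) (g : N →ₗ[A] P) (w) :
    ShortComplex.mk ((SheafOfModules.toSheaf _).map (Formal2.tmodMap A f))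
      ((SheafOfModules.toSheaf _).map (Formal2.tmodMap A g)) w ⟶
    ShortComplex.mk ((SheafOfModules.toSheaf _).map (Formal2.tmodMap A f))
      ((SheafOfModules.toSheaf _).map (Formal2.tmodMap A g)) w where
  τ₁ := (SheafOfModules.toSheaf _).map (Formal2.tmodMap A (c • LinearMap.id))
  τ₂ := (SheafOfModules.toSheaf _).map (Formal2.tmodMap A (c • LinearMap.id))
  τ₃ := (SheafOfModules.toSheaf _).map (Formal2.tmodMap A (c • LinearMap.id))
  comm₁₂ := by
    refine ((SheafOfModules.toSheaf _).map_comp _ _).symm.trans (Eq.trans ?_ ((SheafOfModules.toSheaf _).map_comp _ _))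
    refine congrArg (SheafOfModules.toSheaf _).map ((tilde.map_comp _ _).symm.trans (Eq.trans ?_ (tilde.map_comp _ _)))
    exact congrArg tilde.map (ModuleCat.hom_ext (LinearMap.ext fun m => (map_smul f c m)))
  comm₂₃ := by
    refine ((SheafOfModules.toSheaf _).map_comp _ _).symm.trans (Eq.trans ?_ ((SheafOfModules.toSheaf _).map_comp _ _))
    refine congrArg (SheafOfModules.toSheaf _).map ((tilde.map_comp _ _).symm.trans (Eq.trans ?_ (tilde.map_comp _ _)))
    exact congrArg tilde.map (ModuleCat.hom_ext (LinearMap.ext fun m => (map_smul g c m)))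

/-- `H^i(U, I~) = 0` for an injective module and `i ≥ 1`. -/
theorem subsingleton_HV_injective (I : ModuleCat.{u} A) [Injective I] (i : ℕ) :
    Subsingleton (Formal2.HV A I (i + 1) U) := by
  obtain ⟨e⟩ := S0356.result A a I (i + 1) (Nat.le_add_left 1 i)
  haveI : Subsingleton (LocCoh.H a (i + 1 + 1) I) :=
    H4LC.subsingleton_of_injective (H4LC.quotSys a) I (Nat.succ_pos _)
  have h := e.toEquiv.subsingleton
  have h2 := (H10Coh.HHEquiv ((Formal2.tmod A I).restrict (U).ι) (i + 1)).symm.toEquiv.subsingleton
  have h3 := (H10Coh.restrEquivM (U).ι (Formal2.tmod A I) (i + 1) ⊤).toEquiv.subsingleton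
  rw [show (U).ι ''ᵁ ⊤ = U by simp] at h3
  exact h3

/-- An element killing `H^{i+2}_a(M)` kills `H^{i+1}(U, M~)`. -/
theorem HVmap_smul_eq_zero (i : ℕ) : ∀ (M : Type u) [AddCommGroup M] [Module A M] (c : A),
    (∀ x : LocCoh.H a (i + 2) M, c • x = 0) → ∀ x : Formal2.HV A M (i + 1) U,
      Formal2.HVmap A (c • LinearMap.id) (i + 1) U x = 0 := by
  induction i with
  | zero => ?_
  | succ i ih => ?_
  all_goals
    intro M _ _ c hc x
    let I : ModuleCat.{u} A := Injective.under (ModuleCat.of A M)
    let f : M →ₗ[A] I := (Injective.ι (ModuleCat.of A M)).hom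
    have hf : Function.Injective f := (ModuleCat.mono_iff_injective _).1 (Injective.ι_mono _)
    let g : I →ₗ[A] (I ⧸ LinearMap.range f) := (LinearMap.range f).mkQ
    have hg : Function.Surjective g := Submodule.mkQ_surjective _
    have hfg : Function.Exact f g := LinearMap.exact_map_mkQ_range f
    obtain ⟨w, hS⟩ := shortExact_sh_tilde A f g hf hg hfg
  · obtain ⟨q, hq⟩ := Ext.covariant_sequence_exact₁ _ hS x
      ((subsingleton_HV_injective A a I 0).elim _ _) (show (0 : ℕ) + 1 = 0 + 1 from rfl)
    have hQ : ∀ z : LocCoh.H a 1 (I ⧸ LinearMap.range f), c • z = 0 := fun z =>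
      H4LC.δH_injective a hf hg hfg 1 (H4LC.subsingleton_of_injective (H4LC.quotSys a) I Nat.one_pos)
        ((map_smul _ c z).trans ((hc _).trans (map_zero _).symm))
    obtain ⟨m, hm⟩ := exists_η_eq A a c hQ q
    obtain ⟨m', rfl⟩ := hg m
    rw [← HVmap_η] at hm
    have hn : hS.extClass.comp (Ext.mk₀ ((SheafOfModules.toSheaf _).map (Formal2.tmodMap A (c • LinearMap.id)))) (add_zero 1) =
        (Ext.mk₀ ((SheafOfModules.toSheaf _).map (Formal2.tmodMap A (c • LinearMap.id)))).comp hS.extClass (zero_add 1) :=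
      ShortComplex.ShortExact.extClass_naturality hS hS (smulHomSh A c f g w)
    rw [← hq]
    show (q.comp hS.extClass _).comp _ (add_zero _) = 0
    rw [Ext.comp_assoc_of_third_deg_zero, hn, ← Ext.comp_assoc_of_second_deg_zero]
    refine (congrArg (fun z => Ext.comp z hS.extClass (rfl : 0 + 1 = 1)) hm.symm).trans ?_
    exact (Ext.comp_assoc_of_second_deg_zero _ _ _ _).trans
      ((congrArg (fun z => Ext.comp (η A a I m') z (rfl : 0 + 1 = 1)) hS.comp_extClass).trans (Ext.comp_zero _ _ _ _ _))
  · obtain ⟨q, hq⟩ := Ext.covariant_sequence_exact₁ _ hS x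
      ((subsingleton_HV_injective A a I (i + 1)).elim _ _) (show (i + 1) + 1 = i + 1 + 1 from rfl)
    have hQ : ∀ z : LocCoh.H a (i + 2) (I ⧸ LinearMap.range f), c • z = 0 := fun z =>
      H4LC.δH_injective a hf hg hfg (i + 2) (H4LC.subsingleton_of_injective (H4LC.quotSys a) I (Nat.succ_pos _))
        ((map_smul _ c z).trans ((hc _).trans (map_zero _).symm))
    have hm := ih (I ⧸ LinearMap.range f) c hQ q
    have hn : hS.extClass.comp (Ext.mk₀ ((SheafOfModules.toSheaf _).map (Formal2.tmodMap A (c • LinearMap.id)))) (add_zero 1) =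
        (Ext.mk₀ ((SheafOfModules.toSheaf _).map (Formal2.tmodMap A (c • LinearMap.id)))).comp hS.extClass (zero_add 1) :=
      ShortComplex.ShortExact.extClass_naturality hS hS (smulHomSh A c f g w)
    rw [← hq]
    show (q.comp hS.extClass _).comp _ (add_zero _) = 0
    rw [Ext.comp_assoc_of_third_deg_zero, hn, ← Ext.comp_assoc_of_second_deg_zero]
    exact (congrArg (fun z => Ext.comp z hS.extClass (rfl : (i + 1) + 1 = i + 1 + 1)) hm).trans (Ext.zero_comp _ _ _ _ _)

end Groth.Agent.H24Formal2
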