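import Groth.Agent.H24Formal2.PunctBij
import Groth.Agent.H24Formal2.PunctTorsion

/-!
# Cohomology of a punctured spectrum and formal completion along a principal ideal
-/

set_option autoImplicit false
set_option linter.style.haveILetI false
set_option linter.unusedSectionVars false

universe u

open CategoryTheory CategoryTheory.Limits AlgebraicGeometry Opposite CategoryTheory.Abelian TopologicalSpace

namespace Groth.Agent.H24Formal2

attribute [local instance 10000] H10Coh.hasSheafifyAb H10Coh.hasWeakSheafifyAb H10Coh.hasExtAb H10Coh.enoughInjAb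

variable (A : Type u) [CommRing A]

/-- The sheaf on `Spec A` of a module. -/
noncomputable abbrev tsh : ModuleCat.{u} A ⥤ CohTop.Ab (Spec (CommRingCat.of A)).toTopCat :=
  tilde.functor (CommRingCat.of A) ⋙ H10Coh.shF (Spec (CommRingCat.of A))

instance : PreservesFiniteLimits (tsh A) := by
  haveI : PreservesFiniteLimits (tilde.functor (CommRingCat.of A)) :=
    @H10Coh.tilde_preservesFiniteLimits (CommRingCat.of A)
  exact comp_preservesFiniteLimits _ _

instance : PreservesFiniteColimits (tsh A) := by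
  haveI : PreservesFiniteColimits (tilde.functor (CommRingCat.of A)) :=
    @H10Coh.tilde_preservesFiniteColimits (CommRingCat.of A)
  exact comp_preservesFiniteColimits _ _

instance : (tsh A).Additive := by
  have : ∀ R : CommRingCat.{u}, (tilde.functor R).Additive := fun R => inferInstance
  haveI := this (CommRingCat.of A)
  infer_instance

variable [IsNoetherianRing A] (a : Ideal A) (f : A) [IsAdicComplete (Ideal.span {f}) A]
  (M : Type u) [AddCommGroup M] [Module A M] [Module.Finite A M]

theorem smul_killed_mono {N : Type u} [AddCommGroup N] [Module A N] {n k : ℕ} (h : n ≤ k)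
    (hn : ∀ x : N, f ^ n • x = 0) (x : N) : f ^ k • x = 0 := by
  rw [← Nat.sub_add_cancel h, pow_add, mul_smul, hn, smul_zero]

/-- `H^0` of the punctured spectrum is the limit over the truncations. -/
theorem formalCohBijective_zero (h₁ : ∃ n : ℕ, ∀ x : LocCoh.H a 1 M, f ^ n • x = 0)
    (h₂ : ∃ n : ℕ, ∀ x : LocCoh.H a 2 M, f ^ n • x = 0) :
    Formal2.FormalCohBijective A (Ideal.span {f}) M 0 (LocCoh.puncturedOpen A a) := by
  obtain ⟨n₁, hn₁⟩ := h₁
  obtain ⟨n₂, hn₂⟩ := h₂
  obtain ⟨c, hc⟩ := Gen.exists_torsion_bound A (M := M) f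
  exact Gen.bijective_zero (S := tsh A) (Q := CohCx.freeSheaf _ (LocCoh.puncturedOpen A a)) hc
    (η := fun N _ _ => η A a N) (fun φ m => HVmap_η A a φ m) (η_eq_zero A a) (m := n₁ + n₂)
    (fun y => exists_η_eq A a _ (smul_killed_mono A f (Nat.le_add_right n₁ n₂) hn₁) y)
    (HVmap_smul_eq_zero A a 0 M _ (smul_killed_mono A f (Nat.le_add_left n₂ n₁) hn₂))

/-- Higher cohomology of the punctured spectrum is the limit over the truncations. -/
theorem formalCohBijective_succ (i : ℕ) (h₁ : ∃ n : ℕ, ∀ x : LocCoh.H a (i + 2) M, f ^ n • x = 0)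
    (h₂ : ∃ n : ℕ, ∀ x : LocCoh.H a (i + 3) M, f ^ n • x = 0) :
    Formal2.FormalCohBijective A (Ideal.span {f}) M (i + 1) (LocCoh.puncturedOpen A a) := by
  obtain ⟨n₁, hn₁⟩ := h₁
  obtain ⟨n₂, hn₂⟩ := h₂
  obtain ⟨c, hc⟩ := Gen.exists_torsion_bound A (M := M) f
  exact Gen.bijective_of_killed (S := tsh A) (Q := CohCx.freeSheaf _ (LocCoh.puncturedOpen A a)) hc (m := n₁ + n₂)
    (HVmap_smul_eq_zero A a i M _ (smul_killed_mono A f (Nat.le_add_right n₁ n₂) hn₁))
    (HVmap_smul_eq_zero A a (i + 1) M _ (smul_killed_mono A f (Nat.le_add_left n₂ n₁) hn₂))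

end Groth.Agent.H24Formal2
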