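import Groth.Agent.H24Formal.HomComplete
import Groth.Agent.H10Coh.SheafHom.Flat
import Groth.Agent.H10Coh.AffineAmple
import Groth.Agent.H17.QAffGen
import Groth.Agent.H8Props.RelPCBaseChange
import Groth.Agent.H29Blow.WeakAss

/-!
# Formal sections of finite locally free modules on quasi-affine schemes

Linear forms defined on the whole of a quasi-affine scheme give local coordinates of a finite locally free module,
so completeness of the functions implies completeness of the sections of every finite locally free module.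
-/

set_option autoImplicit false
set_option linter.style.haveILetI false
set_option linter.unusedSectionVars false

universe u

open CategoryTheory CategoryTheory.Limits AlgebraicGeometry Opposite TopologicalSpace

namespace Groth.Agent.H24Formal2.QAff

variable {X : Scheme.{u}}

local notation "𝒪" => Coh.structureModule X

theorem toLin_res_ofHom {E G : X.Modules} (φ : E ⟶ G) (U : X.Opens) (m : Γ(E, U)) :
    H29Ref.toLin ((RefHull.homSh E G).presheaf.map (homOfLE (le_top : U ≤ ⊤)).op (RefHull.ofHom φ ⊤)) m = φ.app U m := by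
  refine H29Ref.sec_ext _ fun y hy => ?_
  rw [H29Ref.germ_toLin _ m ⟨y, hy⟩]
  exact RefHull.stalkMapₗ_germ φ y hy m

/-- A global function as a scalar on a module. -/
noncomputable def sc (M : X.Modules) (r : Γ(X, ⊤)) : M ⟶ M := Formal.smulModΓ M r

theorem sc_app (M : X.Modules) (r : Γ(X, ⊤)) (U : X.Opens) (m : Γ(M, U)) :
    (sc M r).app U m = X.presheaf.map (homOfLE (le_top : U ≤ ⊤)).op r • m := rfl

/-- A linear form on sections over `W`. -/
noncomputable def app1 {E : X.Modules} (θ : E ⟶ 𝒪) (W : X.Opens) : Γ(E, W) →ₗ[Γ(X, W)] Γ(X, W) where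
  toFun m := θ.app W m
  map_add' p q := map_add (θ.app W).hom p q
  map_smul' r p := Scheme.Modules.Hom.app_smul θ r p

theorem app1_apply {E : X.Modules} (θ : E ⟶ 𝒪) (W : X.Opens) (m : Γ(E, W)) : app1 θ W m = θ.app W m := rfl

/-- Restriction of functions. -/
noncomputable abbrev rs {V W : X.Opens} (h : V ≤ W) : Γ(X, W) →+* Γ(X, V) := (X.presheaf.map (homOfLE h).op).hom

theorem app1_comp_sc {E : X.Modules} (θ : E ⟶ 𝒪) (r : Γ(X, ⊤)) (W : X.Opens) (m : Γ(E, W)) :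
    app1 (θ ≫ sc 𝒪 r) W m = rs (le_top : W ≤ ⊤) r * app1 θ W m := rfl

/-- Evaluation at a section. -/
noncomputable def ev {E : X.Modules} (W : X.Opens) (m : Γ(E, W)) : (E ⟶ 𝒪) →+ Γ(X, W) :=
  AddMonoidHom.mk' (fun θ => app1 θ W m) fun _ _ => rfl

theorem app1_res {E : X.Modules} (θ : E ⟶ 𝒪) {V W : X.Opens} (h : V ≤ W) (m : Γ(E, W)) :
    app1 θ V (E.presheaf.map (homOfLE h).op m) = rs h (app1 θ W m) :=
  H11Tilde.app_map_apply θ h m

variable [IsNoetherian X] [X.IsQuasiAffine] {E : X.Modules} (hE : FlatMod.IsFinLocFree E)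

theorem ofHom_comp_sc {E : X.Modules} (D : E ⟶ 𝒪) (r : Γ(X, ⊤)) :
    RefHull.ofHom (D ≫ sc 𝒪 r) ⊤ = r • RefHull.ofHom D ⊤ := by
  refine Subtype.ext (funext fun y => LinearMap.ext fun v => ?_)
  obtain ⟨V, hyV, m, rfl⟩ := TopCat.Presheaf.exists_germ_eq E.presheaf v
  show RefHull.stalkMapₗ (D ≫ sc 𝒪 r) y.1 _ = X.presheaf.germ ⊤ y.1 y.2 r • RefHull.stalkMapₗ D y.1 _
  rw [RefHull.stalkMapₗ_germ, RefHull.stalkMapₗ_germ]
  show (Coh.structureModule X).presheaf.germ V y.1 hyV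
    ((X.presheaf.map (homOfLE (le_top : V ≤ ⊤)).op r : Γ(X, V)) • D.app V m) = _
  rw [Mero.germ_smul, X.presheaf.germ_res_apply (homOfLE le_top) y.1 hyV r]

include hE in
/-- Inside every neighbourhood of a point there is an affine `D(g)` with coordinates given by global linear forms. -/
theorem exists_chart {W₀ : X.Opens} {x : X} (hx₀ : x ∈ W₀) :
    ∃ (g : Γ(X, ⊤)) (U : X.Opens), x ∈ U ∧ U ≤ W₀ ∧ U = X.basicOpen g ∧ IsAffineOpen U ∧
      ∃ (n : ℕ) (φ : Fin n → (E ⟶ 𝒪)) (b : Fin n → Γ(E, U)),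
        ∀ m : Γ(E, U), m = ∑ i, app1 (φ i) U m • b i := by
  classical
  obtain ⟨W, r, hxW, ⟨e⟩⟩ := hE x
  obtain ⟨g, hg, hgW, hxg⟩ := H17.QAffGen.exists_basicOpen_finite (U := W₀ ⊓ W) (E := {x})
    (by simpa using And.intro hx₀ hxW)
  have hx : x ∈ X.basicOpen g := hxg x (Finset.mem_singleton_self x)
  set U := X.basicOpen g
  obtain ⟨hfree, hfin⟩ := H8Props.FinLocFree.free_finite_of_chart E e (V := U) (hgW.trans inf_le_right)
  let bb := (Module.Free.chooseBasis Γ(X, U) Γ(E, U)).reindex (Fintype.equivFin _)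
  have hEq := H8Props.FinLocFree.isQCoh_of_isFinLocFree E hE
  haveI : (RefHull.homSh E 𝒪).IsQuasicoherent :=
    H29Ref.isQCoh_homSh E 𝒪 (H8Props.FinLocFree.isFP_of_isFinLocFree E hE) (H29Blow.isQCoh_structureModule X)
  haveI : QuasiSeparatedSpace X := inferInstance
  have hext : ∀ i, ∃ (N : ℕ) (φ : E ⟶ 𝒪), ∀ m : Γ(E, U),
      φ.app U m = X.presheaf.map (homOfLE (le_top : U ≤ ⊤)).op (g ^ N) • (bb.coord i m) := fun i => by
    obtain ⟨f, hf⟩ := (H29Ref.bijective_toLinₗ E 𝒪 hEq hg).2 (bb.coord i)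
    obtain ⟨N, s, hs⟩ := H10Coh.exists_pow_smul_eq_res_of_isCompact (RefHull.homSh E 𝒪) (W := ⊤) isCompact_univ g f
    obtain ⟨φ, rfl⟩ := H10Coh.SheafHom.ofHom_surjective s
    refine ⟨N, φ, fun m => ?_⟩
    rw [← toLin_res_ofHom φ U m]
    exact (LinearMap.congr_fun (congrArg (H29Ref.toLinₗ E 𝒪 U) hs) m).trans
      ((LinearMap.congr_fun (map_smul (H29Ref.toLinₗ E 𝒪 U) _ f) m).trans (by rw [LinearMap.smul_apply, hf]; rfl))
  choose N φ hφ using hext
  have hu : ∀ k : ℕ, IsUnit (X.presheaf.map (homOfLE (le_top : U ≤ ⊤)).op (g ^ k)) := fun k => by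
    rw [map_pow]; exact (X.toRingedSpace.isUnit_res_basicOpen g).pow k
  let b : _ → Γ(E, U) := fun i => ((hu (N i)).unit⁻¹ : Γ(X, U)ˣ).1 • bb i
  have key : ∀ m : Γ(E, U), m = ∑ i, app1 (φ i) U m • b i := fun m => by
    conv_lhs => rw [← bb.sum_repr m]
    refine Finset.sum_congr rfl fun i _ => ?_
    show bb.repr m i • bb i = app1 (φ i) U m • ((hu (N i)).unit⁻¹ : Γ(X, U)ˣ).1 • bb i
    have h : app1 (φ i) U m = rs (le_top : U ≤ ⊤) (g ^ N i) * bb.repr m i := hφ i m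
    rw [smul_smul, h, mul_comm (rs (le_top : U ≤ ⊤) _) (bb.repr m i), mul_assoc, IsUnit.mul_val_inv, mul_one]
  exact ⟨g, U, hx, hgW.trans inf_le_left, rfl, hg, _, φ, b, key⟩

include hE in
/-- Global linear forms separate sections. -/
theorem eq_zero_of_forall {V : X.Opens} (z : Γ(E, V)) (h : ∀ φ : E ⟶ 𝒪, app1 φ V z = 0) : z = 0 := by
  refine H29Ref.sec_ext _ fun y hy => ?_
  obtain ⟨g, U, hyU, hUV, -, -, n, φ, b, hb⟩ := exists_chart hE hy
  rw [← H29Ref.germ_res _ hUV y hyU]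
  have h0 : E.presheaf.map (homOfLE hUV).op z = 0 := by
    rw [hb (E.presheaf.map (homOfLE hUV).op z)]
    refine Finset.sum_eq_zero fun i _ => ?_
    rw [app1_res, h, map_zero, zero_smul]
  rw [h0, map_zero, map_zero]

theorem isUnit_rs_pow {g : Γ(X, ⊤)} {U : X.Opens} (hU : U = X.basicOpen g) (k : ℕ) :
    IsUnit (rs (le_top : U ≤ ⊤) (g ^ k)) := by
  subst hU
  rw [map_pow]
  exact (X.toRingedSpace.isUnit_res_basicOpen g).pow k

theorem exists_coeff_of_chart {g : Γ(X, ⊤)} {U : X.Opens} (hU : U = X.basicOpen g) (t : Γ(X, U)) :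
    ∃ (M : ℕ) (C : Γ(X, ⊤)), rs (le_top : U ≤ ⊤) C = rs (le_top : U ≤ ⊤) (g ^ M) * t := by
  subst hU
  haveI : (Coh.structureModule X).IsQuasicoherent := H29Blow.isQCoh_structureModule X
  exact H10Coh.exists_pow_smul_eq_res_of_isCompact (Coh.structureModule X) (W := ⊤) isCompact_univ g t

include hE in
/-- A form vanishing on `D(g)` is killed by a power of `g`. -/
theorem exists_pow_kill {g : Γ(X, ⊤)} {U : X.Opens} (hU : U = X.basicOpen g) (hUaff : IsAffineOpen U) (D : E ⟶ 𝒪)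
    (hD : ∀ m : Γ(E, U), app1 D U m = 0) : ∃ L : ℕ, D ≫ sc 𝒪 (g ^ L) = 0 := by
  haveI : (RefHull.homSh E 𝒪).IsQuasicoherent :=
    H29Ref.isQCoh_homSh E 𝒪 (H8Props.FinLocFree.isFP_of_isFinLocFree E hE) (H29Blow.isQCoh_structureModule X)
  have h0 : (RefHull.homSh E 𝒪).presheaf.map (homOfLE (le_top : U ≤ ⊤)).op (RefHull.ofHom D ⊤) = 0 :=
    (H29Ref.bijective_toLinₗ E 𝒪 (H8Props.FinLocFree.isQCoh_of_isFinLocFree E hE) hUaff).1 (LinearMap.ext fun m =>
      ((toLin_res_ofHom D U m).trans (hD m)).trans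
        (LinearMap.congr_fun (map_zero (H29Ref.toLinₗ E 𝒪 U)).symm m))
  subst hU
  obtain ⟨L, hL⟩ := H10Coh.exists_pow_smul_eq_zero_of_isCompact (RefHull.homSh E 𝒪) (W := ⊤) isCompact_univ g
    (RefHull.ofHom D ⊤) h0
  refine ⟨L, H10Coh.SheafHom.ofHom_injective ((ofHom_comp_sc D (g ^ L)).trans (hL.trans ?_))⟩
  refine (Subtype.ext (funext fun y => LinearMap.ext fun v => ?_)).symm
  obtain ⟨V, hyV, m, rfl⟩ := TopCat.Presheaf.exists_germ_eq E.presheaf v
  exact (RefHull.stalkMapₗ_germ (0 : E ⟶ 𝒪) y.1 hyV m).trans (map_zero _)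

include hE in
/-- A linear functional on the global linear forms comes from a section. -/
theorem exists_section (a : (E ⟶ 𝒪) →+ Γ(X, ⊤))
    (ha : ∀ (φ : E ⟶ 𝒪) (r : Γ(X, ⊤)), a (φ ≫ sc 𝒪 r) = r * a φ) :
    ∃ s : Γ(E, ⊤), ∀ φ : E ⟶ 𝒪, app1 φ ⊤ s = a φ := by
  classical
  choose g U hxU _ hU hUaff n φ b hb using fun x : X => exists_chart hE (W₀ := ⊤) (x := x) trivial
  let loc : ∀ x, Γ(E, U x) := fun x => ∑ i, rs (le_top : U x ≤ ⊤) (a (φ x i)) • b x i
  have hloc : ∀ x (ψ : E ⟶ 𝒪), app1 ψ (U x) (loc x) = rs (le_top : U x ≤ ⊤) (a ψ) := fun x ψ => by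
    -- on `D(g)` the form `ψ` is a combination of the coordinates, with global coefficients after a power of `g`
    choose M C hC using fun i => exists_coeff_of_chart (hU x) (app1 ψ (U x) (b x i))
    let K := Finset.univ.sup M
    let C' : Fin (n x) → Γ(X, ⊤) := fun i => g x ^ (K - M i) * C i
    have hC' : ∀ i, rs (le_top : U x ≤ ⊤) (C' i) = rs (le_top : U x ≤ ⊤) (g x ^ K) * app1 ψ (U x) (b x i) := fun i => by
      show rs _ (g x ^ (K - M i) * C i) = _
      rw [map_mul, hC, ← mul_assoc, ← map_mul, ← pow_add, Nat.sub_add_cancel (Finset.le_sup (Finset.mem_univ i))]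
    let D : E ⟶ 𝒪 := ψ ≫ sc 𝒪 (g x ^ K) - ∑ i, φ x i ≫ sc 𝒪 (C' i)
    have hD : ∀ m : Γ(E, U x), app1 D (U x) m = 0 := fun m => by
      show ev (U x) m D = 0
      rw [map_sub, map_sum, sub_eq_zero]
      show app1 (ψ ≫ sc 𝒪 (g x ^ K)) (U x) m = ∑ i, app1 (φ x i ≫ sc 𝒪 (C' i)) (U x) m
      rw [app1_comp_sc, hb x m, map_sum, Finset.mul_sum]
      refine Finset.sum_congr rfl fun i _ => ?_
      rw [← hb x m, app1_comp_sc, hC', LinearMap.map_smul, smul_eq_mul]
      ring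
    obtain ⟨L, hL⟩ := exists_pow_kill hE (hU x) (hUaff x) D hD
    have hrU : ∀ θ r, rs (le_top : U x ≤ ⊤) (a (θ ≫ sc 𝒪 r)) = rs (le_top : U x ≤ ⊤) r * rs (le_top : U x ≤ ⊤) (a θ) :=
      fun θ r => by rw [ha, map_mul]
    have hA : rs (le_top : U x ≤ ⊤) (a D) = 0 := by
      refine (isUnit_rs_pow (hU x) L).mul_right_eq_zero.1 ?_
      rw [← hrU, hL, map_zero, map_zero]
    rw [map_sub, map_sum, map_sub, map_sum, sub_eq_zero, hrU] at hA
    refine (isUnit_rs_pow (hU x) K).mul_left_cancel ?_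
    refine Eq.trans ?_ hA.symm
    show _ * app1 ψ (U x) (∑ i, rs (le_top : U x ≤ ⊤) (a (φ x i)) • b x i) = _
    rw [map_sum, Finset.mul_sum]
    refine Finset.sum_congr rfl fun i _ => ?_
    rw [LinearMap.map_smul, smul_eq_mul, hrU, hC']
    ring
  have hcompat : TopCat.Presheaf.IsCompatible (H10Coh.sh E).obj U loc := fun x y => by
    refine sub_eq_zero.1 (eq_zero_of_forall hE _ fun ψ => ?_)
    refine (map_sub (app1 ψ (U x ⊓ U y)) _ _).trans (sub_eq_zero.2 ?_)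
    refine (app1_res ψ inf_le_left (loc x)).trans (Eq.trans ?_ (app1_res ψ inf_le_right (loc y)).symm)
    rw [hloc, hloc]
    show X.presheaf.map _ (X.presheaf.map _ (a ψ)) = X.presheaf.map _ (X.presheaf.map _ (a ψ))
    rw [← ConcreteCategory.comp_apply, ← Functor.map_comp, ← ConcreteCategory.comp_apply, ← Functor.map_comp]
    rfl
  obtain ⟨s, hs, -⟩ := TopCat.Sheaf.existsUnique_gluing' (H10Coh.sh E) U ⊤ (fun x => homOfLE le_top)
    (fun y _ => Opens.mem_iSup.2 ⟨y, hxU y⟩) loc hcompat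
  refine ⟨s, fun ψ => TopCat.Sheaf.eq_of_locally_eq' X.sheaf U ⊤ (fun x => homOfLE le_top)
    (fun y _ => Opens.mem_iSup.2 ⟨y, hxU y⟩) _ _ fun x => ?_⟩
  exact (app1_res ψ (le_top : U x ≤ ⊤) s).symm.trans ((congrArg (app1 ψ (U x)) (hs x)).trans (hloc x ψ))

section Completion

variable {A : Type u} [CommRing A] [X.Over (Spec (CommRingCat.of A))] (I : Ideal A)

omit [AlgebraicGeometry.IsNoetherian X] [X.IsQuasiAffine] in
theorem sc_natural {M N : X.Modules} (φ : M ⟶ N) (r : Γ(X, ⊤)) : sc M r ≫ φ = φ ≫ sc N r :=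
  H24Formal.hom_ext_app _ _ fun U m => Scheme.Modules.Hom.app_smul φ _ m

omit [AlgebraicGeometry.IsNoetherian X] [X.IsQuasiAffine] in
/-- The map of truncations induced by a linear form. -/
theorem exists_levelMap {M N : X.Modules} (φ : M ⟶ N) (n : ℕ) :
    ∃ ψ : Formal.modPow I n M ⟶ Formal.modPow I n N, Formal.modPowπ I n M ≫ ψ = φ ≫ Formal.modPowπ I n N :=
  ⟨cokernel.desc _ (φ ≫ Formal.modPowπ I n N) (Sigma.hom_ext _ _ fun b => by
      rw [Formal.smulFamily, Sigma.ι_desc_assoc, comp_zero, ← Category.assoc]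
      have h : Formal.smulMod A M b.1 ≫ φ = φ ≫ Formal.smulMod A N b.1 := sc_natural φ _
      rw [h, Category.assoc, H24Formal.smulMod_modPowπ_eq_zero I b.2, comp_zero]), cokernel.π_desc _ _ _⟩

include hE in
/-- Completeness of the functions implies completeness of the sections of a finite locally free module. -/
theorem bijective_toHHlim (h : Function.Bijective (Formal.toHHlim I (Coh.structureModule X) 0)) :
    Function.Bijective (Formal.toHHlim I E 0) := by
  classical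
  have hEc : Coh.IsCoh E := H10Coh.Tw.isCoh_of_vb hE
  have hOc : Coh.IsCoh (Coh.structureModule X) := H10Coh.Tw.isCoh_of_vb (H8Props.RelPC.isFinLocFree_structure X)
  have hval : ∀ (M : X.Modules) (x : Coh.HH X M 0) (n : ℕ),
      H10Coh.HH0Equiv _ ((Formal.toHHlim I M 0 x).1 n) = (Formal.modPowπ I (n + 1) M).app ⊤ (H10Coh.HH0Equiv M x) :=
    fun M x n => H28NT.HH0Equiv_map _ x
  -- sections of the functions, compatible with the truncations
  have hsep : ∀ t : Γ(𝒪, ⊤), (∀ n, (Formal.modPowπ I (n + 1) 𝒪).app ⊤ t = 0) → t = 0 := fun t ht => by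
    have : (H10Coh.HH0Equiv 𝒪).symm t = 0 := h.1 (Subtype.ext (funext fun n => (H10Coh.HH0Equiv _).injective (by
      rw [hval, AddEquiv.apply_symm_apply, ht n, map_zero]
      exact (map_zero _).symm)))
    simpa using congrArg (H10Coh.HH0Equiv 𝒪) this
  choose ψ hψ using fun (φ : E ⟶ 𝒪) (n : ℕ) => exists_levelMap I φ n
  refine ⟨(injective_iff_map_eq_zero _).2 fun x hx => (H10Coh.HH0Equiv E).injective ?_, fun y => ?_⟩
  · rw [map_zero]
    refine eq_zero_of_forall hE _ fun φ => hsep _ fun n => ?_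
    have h2 : (Formal.modPowπ I (n + 1) E).app ⊤ (H10Coh.HH0Equiv E x) = 0 := by rw [← hval, hx]; exact map_zero _
    refine (congr($(congrArg (fun k => Scheme.Modules.Hom.app k (⊤ : X.Opens)) (hψ φ (n + 1)).symm) (H10Coh.HH0Equiv E x))).trans ?_
    show (ψ φ (n + 1)).app ⊤ ((Formal.modPowπ I (n + 1) E).app ⊤ _) = 0
    rw [h2, map_zero]
  let yS : ∀ n, Γ(Formal.modPow I (n + 1) E, ⊤) := fun n => H10Coh.HH0Equiv _ (y.1 n)
  have hyS : ∀ n, (Formal.modPowTrans I (n + 1) E).app ⊤ (yS (n + 1)) = yS n := fun n =>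
    (H28NT.HH0Equiv_map (Formal.modPowTrans I (n + 1) E) (y.1 (n + 1))).symm.trans (congrArg _ (y.2 n))
  have hval' : ∀ φ : E ⟶ 𝒪, ∃ t : Γ(𝒪, ⊤), ∀ n,
      (Formal.modPowπ I (n + 1) 𝒪).app ⊤ t = (ψ φ (n + 1)).app ⊤ (yS n) := fun φ => by
    obtain ⟨z, hz⟩ := h.2 ⟨fun n => (H10Coh.HH0Equiv _).symm ((ψ φ (n + 1)).app ⊤ (yS n)), fun n => by
      refine (H10Coh.HH0Equiv _).injective ?_
      refine (H28NT.HH0Equiv_map (Formal.modPowTrans I (n + 1) 𝒪) _).trans ?_
      refine (congrArg _ (AddEquiv.apply_symm_apply _ _)).trans (Eq.trans ?_ (AddEquiv.apply_symm_apply _ _).symm)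
      have hn : ψ φ (n + 1 + 1) ≫ Formal.modPowTrans I (n + 1) 𝒪 = Formal.modPowTrans I (n + 1) E ≫ ψ φ (n + 1) := by
        rw [← cancel_epi (Formal.modPowπ I (n + 1 + 1) E), ← Category.assoc, hψ, Category.assoc, Formal.modPowπ_trans,
          ← Category.assoc, Formal.modPowπ_trans, hψ]
      rw [← hyS n]
      exact congr($(congrArg (fun k => Scheme.Modules.Hom.app k (⊤ : X.Opens)) hn) (yS (n + 1)))⟩
    refine ⟨H10Coh.HH0Equiv 𝒪 z, fun n => ?_⟩
    rw [← hval, hz]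
    exact AddEquiv.apply_symm_apply _ _
  choose a ha using hval'
  have huniq : ∀ (φ : E ⟶ 𝒪) (t : Γ(𝒪, ⊤)),
      (∀ n, (Formal.modPowπ I (n + 1) 𝒪).app ⊤ t = (ψ φ (n + 1)).app ⊤ (yS n)) → t = a φ := fun φ t ht =>
    sub_eq_zero.1 (hsep _ fun n => by rw [map_sub, ht, ha, sub_self])
  have hadd : ∀ φ φ' : E ⟶ 𝒪, a (φ + φ') = a φ + a φ' := fun φ φ' => (huniq _ _ fun n => by
    have e : ψ (φ + φ') (n + 1) = ψ φ (n + 1) + ψ φ' (n + 1) := by
      rw [← cancel_epi (Formal.modPowπ I (n + 1) E), hψ, Preadditive.comp_add, hψ, hψ, Preadditive.add_comp]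
    rw [map_add, ha, ha, e]
    rfl).symm
  have hsc : ∀ (φ : E ⟶ 𝒪) (r : Γ(X, ⊤)), a (φ ≫ sc 𝒪 r) = (sc 𝒪 r).app ⊤ (a φ) := fun φ r => (huniq _ _ fun n => by
    have e : ψ (φ ≫ sc 𝒪 r) (n + 1) = ψ φ (n + 1) ≫ sc _ r := by
      rw [← cancel_epi (Formal.modPowπ I (n + 1) E), hψ, ← Category.assoc, hψ, Category.assoc, Category.assoc,
        sc_natural]
    rw [e]
    refine (congr($(congrArg (fun k => Scheme.Modules.Hom.app k (⊤ : X.Opens)) (sc_natural (Formal.modPowπ I (n + 1) 𝒪) r)) (a φ))).trans ?_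
    exact congrArg ((sc (Formal.modPow I (n + 1) 𝒪) r).app ⊤) (ha φ n)).symm
  obtain ⟨s, hs⟩ := exists_section hE (AddMonoidHom.mk' (fun φ => (a φ : Γ(X, ⊤))) hadd) fun φ r => by
    refine (hsc φ r).trans ?_
    show X.presheaf.map (homOfLE (le_top : (⊤ : X.Opens) ≤ ⊤)).op r * (show Γ(X, ⊤) from a φ) = r * (show Γ(X, ⊤) from a φ)
    rw [show (homOfLE (le_top : (⊤ : X.Opens) ≤ ⊤)).op = 𝟙 _ from rfl, X.presheaf.map_id]
    rfl
  refine ⟨(H10Coh.HH0Equiv E).symm s, Subtype.ext (funext fun n => (H10Coh.HH0Equiv _).injective ?_)⟩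
  rw [hval, AddEquiv.apply_symm_apply]
  refine sub_eq_zero.1 (H29Ref.sec_ext _ fun x _ => ?_)
  obtain ⟨g, U, hxU, -, hUg, hU, m, φ, b, hb⟩ := exists_chart hE (W₀ := ⊤) (x := x) trivial
  rw [← H29Ref.germ_res _ (le_top : U ≤ ⊤) x hxU]
  have hz : (Formal.modPow I (n + 1) E).presheaf.map (homOfLE (le_top : U ≤ ⊤)).op
      ((Formal.modPowπ I (n + 1) E).app ⊤ s - H10Coh.HH0Equiv _ (y.1 n)) = 0 := by
    obtain ⟨w, hw⟩ := H24Formal.HomC.surjective_modPowπ I (n + 1) hEc hU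
      ((Formal.modPow I (n + 1) E).presheaf.map (homOfLE (le_top : U ≤ ⊤)).op
        ((Formal.modPowπ I (n + 1) E).app ⊤ s - H10Coh.HH0Equiv _ (y.1 n)))
    rw [← hw]
    have hmem : w ∈ LinearMap.ker (H24Formal.HomC.appL (Formal.modPowπ I (n + 1) E) U) := by
      rw [H24Formal.HomC.ker_modPowπ_of_isNoetherian I (n + 1) hEc hU, hb w]
      refine Submodule.sum_mem _ fun i _ => Submodule.smul_mem_smul ?_ trivial
      have h4 : (show Γ(𝒪, U) from app1 (φ i) U w) ∈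
          LinearMap.ker (H24Formal.HomC.appL (Formal.modPowπ I (n + 1) 𝒪) U) := by
        rw [LinearMap.mem_ker, H24Formal.HomC.appL_apply]
        refine (congr($(congrArg (fun k => Scheme.Modules.Hom.app k U) (hψ (φ i) (n + 1)).symm) w)).trans ?_
        show (ψ (φ i) (n + 1)).app U ((Formal.modPowπ I (n + 1) E).app U w) = 0
        refine (congrArg ((ψ (φ i) (n + 1)).app U) hw).trans ?_
        rw [H11Tilde.app_map_apply, map_sub, sub_eq_zero.2 ?_, map_zero]
        refine Eq.trans ?_ (ha (φ i) n)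
        refine (congr($(congrArg (fun k => Scheme.Modules.Hom.app k (⊤ : X.Opens)) (hψ (φ i) (n + 1))) s)).trans ?_
        exact congrArg ((Formal.modPowπ I (n + 1) 𝒪).app ⊤) (hs (φ i))
      rw [H24Formal.HomC.ker_modPowπ_of_isNoetherian I (n + 1) hOc hU] at h4
      refine Submodule.smul_induction_on (p := fun q : Γ(𝒪, U) => (show Γ(X, U) from q) ∈ H24Formal.HomC.secIdeal I U ^ (n + 1)) h4
        (fun r hr q _ => Ideal.mul_mem_right (show Γ(X, U) from q) _ hr) (fun p q hp hq => add_mem hp hq)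
    exact LinearMap.mem_ker.1 hmem
  rw [hz, map_zero, map_zero]

end Completion

end Groth.Agent.H24Formal2.QAff
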