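import Groth.Prelude.Def_Formal2
import Mathlib.RingTheory.KrullDimension.NonZeroDivisors
import Mathlib.RingTheory.Localization.AtPrime.Basic

/-!
# `dimBetween` as the dimension of an interval of primes
-/

set_option autoImplicit false

universe u

namespace Groth.Agent.H24Formal2

theorem dimBetween_eq {A : Type u} [CommRing A] {p q : PrimeSpectrum A} (_hpq : p ≤ q) :
    Formal2.dimBetween A p.asIdeal q.asIdeal = Order.krullDim (Set.Icc p q) := by
  let L := Localization.AtPrime q.asIdeal
  let e := IsLocalization.AtPrime.primeSpectrumOrderIso L q.asIdeal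
  have he : ∀ z, (e z).1.asIdeal = z.asIdeal.comap (algebraMap A L) := fun z => rfl
  show ringKrullDim (L ⧸ p.asIdeal.map (algebraMap A L)) = _
  rw [ringKrullDim_quotient]
  refine Order.krullDim_eq_of_orderIso
    { toFun := fun z => ⟨(e z.1).1, ?_, (e z.1).2⟩
      invFun := fun z => ⟨e.symm ⟨z.1, z.2.2⟩, ?_⟩
      left_inv := fun z => Subtype.ext (e.symm_apply_apply z.1)
      right_inv := fun z => Subtype.ext (by simp)
      map_rel_iff' := fun {a b} => e.map_rel_iff }
  · show p.asIdeal ≤ _
    rw [he]
    exact Ideal.map_le_iff_le_comap.1 z.2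
  · show p.asIdeal.map (algebraMap A L) ≤ _
    refine Ideal.map_le_iff_le_comap.2 ?_
    rw [← he, e.apply_symm_apply]
    exact z.2.1

end Groth.Agent.H24Formal2
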