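import Groth.Agent.H24Formal2.SectionsH0
import Mathlib.RingTheory.Filtration

/-! Left exact presheaf-valued functors: comparison with the limit of adic truncations. -/

set_option autoImplicit false
set_option linter.style.haveILetI false

universe u

open CategoryTheory CategoryTheory.Limits AlgebraicGeometry Opposite

namespace Groth.Agent.H24Formal2

noncomputable section Abstract

variable {A : Type u} [CommRing A] (Φ : ModuleCat.{u} A ⥤ ((Spec (CommRingCat.of A)).Opensᵒᵖ ⥤ AddCommGrpCat.{u}))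

/-- The group at an open. -/
abbrev Sc (M : Type u) [AddCommGroup M] [Module A M] (V : (Spec (CommRingCat.of A)).Opens) : Type u :=
  (Φ.obj (ModuleCat.of A M)).obj (op V)

/-- The map induced by a linear map. -/
abbrev scMap {M N : Type u} [AddCommGroup M] [Module A M] [AddCommGroup N] [Module A N] (φ : M →ₗ[A] N)
    (V : (Spec (CommRingCat.of A)).Opens) : Sc Φ M V →+ Sc Φ N V :=
  ((Φ.map (ModuleCat.ofHom φ)).app (op V)).hom

/-- Restriction. -/
abbrev scRes (M : Type u) [AddCommGroup M] [Module A M] {V V' : (Spec (CommRingCat.of A)).Opens} (h : V' ≤ V) :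
    Sc Φ M V →+ Sc Φ M V' :=
  ((Φ.obj (ModuleCat.of A M)).map (homOfLE h).op).hom

variable {M N P : Type u} [AddCommGroup M] [Module A M] [AddCommGroup N] [Module A N] [AddCommGroup P] [Module A P]

theorem scMap_comp (φ : M →ₗ[A] N) (ψ : N →ₗ[A] P) (V : (Spec (CommRingCat.of A)).Opens) (x : Sc Φ M V) :
    scMap Φ ψ V (scMap Φ φ V x) = scMap Φ (ψ ∘ₗ φ) V x := by
  show _ = ((Φ.map (ModuleCat.ofHom φ ≫ ModuleCat.ofHom ψ)).app (op V)).hom x
  rw [Φ.map_comp]
  rfl

theorem scMap_id (V : (Spec (CommRingCat.of A)).Opens) (x : Sc Φ M V) :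
    scMap Φ (LinearMap.id : M →ₗ[A] M) V x = x := by
  show ((Φ.map (𝟙 (ModuleCat.of A M))).app (op V)).hom x = x
  rw [Φ.map_id]
  rfl

theorem scMap_congr {N' : Type u} [AddCommGroup N'] [Module A N'] {φ : M →ₗ[A] N} {ψ : N →ₗ[A] P}
    {φ' : M →ₗ[A] N'} {ψ' : N' →ₗ[A] P} (e : ψ ∘ₗ φ = ψ' ∘ₗ φ') (V : (Spec (CommRingCat.of A)).Opens)
    (x : Sc Φ M V) : scMap Φ ψ V (scMap Φ φ V x) = scMap Φ ψ' V (scMap Φ φ' V x) := by
  rw [scMap_comp, scMap_comp, e]

theorem scRes_scMap (φ : M →ₗ[A] N) {V V' : (Spec (CommRingCat.of A)).Opens} (h : V' ≤ V) (x : Sc Φ M V) :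
    scRes Φ N h (scMap Φ φ V x) = scMap Φ φ V' (scRes Φ M h x) :=
  (ConcreteCategory.congr_hom ((Φ.map (ModuleCat.ofHom φ)).naturality (homOfLE h).op) x).symm

theorem scRes_trans {V V' V'' : (Spec (CommRingCat.of A)).Opens} (h : V' ≤ V) (h' : V'' ≤ V') (x : Sc Φ M V) :
    scRes Φ M h' (scRes Φ M h x) = scRes Φ M (h'.trans h) x :=
  (ConcreteCategory.congr_hom ((Φ.obj (ModuleCat.of A M)).map_comp (homOfLE h).op (homOfLE h').op) x).symm

/-- Comparison of the colimit over admissible opens with the limit of the truncations. -/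
def ColimBij (I : Ideal A) (M : Type u) [AddCommGroup M] [Module A M] (U : (Spec (CommRingCat.of A)).Opens) : Prop :=
  (∀ (V : (Spec (CommRingCat.of A)).Opens) (_ : Formal2.Admissible A I U V) (x : Sc Φ M V),
      (∀ n, scMap Φ (Formal2.quotPowπ A I M n) V x = 0) →
        ∃ (V' : (Spec (CommRingCat.of A)).Opens) (h : Formal2.Admissible A I U V' ∧ V' ≤ V),
          scRes Φ M h.2 x = 0) ∧
  ∀ y : ∀ n, Sc Φ (Formal2.quotPow A I M n) U,
    (∀ n, scMap Φ (Formal2.quotPowTrans A I M n) U (y (n + 1)) = y n) →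
      ∃ (V : (Spec (CommRingCat.of A)).Opens) (hV : Formal2.Admissible A I U V) (x : Sc Φ M V),
        ∀ n, scRes Φ (Formal2.quotPow A I M n) hV.1 (y n) = scMap Φ (Formal2.quotPowπ A I M n) V x

theorem colimBij_left (hinj : ∀ {M N : Type u} [AddCommGroup M] [Module A M] [AddCommGroup N] [Module A N]
      (φ : M →ₗ[A] N), Function.Injective φ → ∀ V, Function.Injective (scMap Φ φ V))
    (hex : ∀ {M N P : Type u} [AddCommGroup M] [Module A M] [AddCommGroup N] [Module A N] [AddCommGroup P] [Module A P]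
      (f : M →ₗ[A] N) (g : N →ₗ[A] P), Function.Injective f → Function.Surjective g → LinearMap.range f = LinearMap.ker g →
      ∀ V (x : Sc Φ N V), scMap Φ g V x = 0 → ∃ y, scMap Φ f V y = x)
    (hzero : ∀ {M N : Type u} [AddCommGroup M] [Module A M] [AddCommGroup N] [Module A N] V (x : Sc Φ M V),
      scMap Φ (0 : M →ₗ[A] N) V x = 0)
    [IsNoetherianRing A] (I : Ideal A) (U : (Spec (CommRingCat.of A)).Opens)
    {M' M M'' : Type u} [AddCommGroup M'] [Module A M'] [AddCommGroup M] [Module A M] [AddCommGroup M''] [Module A M'']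
    [Module.Finite A M]
    (f : M' →ₗ[A] M) (g : M →ₗ[A] M'') (hf : Function.Injective f) (hg : Function.Surjective g)
    (hfg : LinearMap.range f = LinearMap.ker g) (h : ColimBij Φ I M U) (h'' : ColimBij Φ I M'' U) :
    ColimBij Φ I M' U := by
  let qf : ∀ n, Formal2.quotPow A I M' n →ₗ[A] Formal2.quotPow A I M n := fun n =>
    Submodule.mapQ _ _ f (by
      rw [← Submodule.map_le_iff_le_comap, Submodule.map_smul'']
      exact Submodule.smul_mono le_rfl le_top)
  let qg : ∀ n, Formal2.quotPow A I M n →ₗ[A] Formal2.quotPow A I M'' n := fun n =>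
    Submodule.mapQ _ _ g (by
      rw [← Submodule.map_le_iff_le_comap, Submodule.map_smul'']
      exact Submodule.smul_mono le_rfl le_top)
  have eqf : ∀ n, qf n ∘ₗ Formal2.quotPowπ A I M' n = Formal2.quotPowπ A I M n ∘ₗ f := fun n =>
    LinearMap.ext fun m => rfl
  have eqg : ∀ n, qg n ∘ₗ Formal2.quotPowπ A I M n = Formal2.quotPowπ A I M'' n ∘ₗ g := fun n =>
    LinearMap.ext fun m => rfl
  have hqf : ∀ n V (x : Sc Φ M' V),
      scMap Φ (qf n) V (scMap Φ (Formal2.quotPowπ A I M' n) V x) =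
        scMap Φ (Formal2.quotPowπ A I M n) V (scMap Φ f V x) := fun n V x =>
    scMap_congr Φ (eqf n) V x
  have hqg : ∀ n V (x : Sc Φ M V),
      scMap Φ (qg n) V (scMap Φ (Formal2.quotPowπ A I M n) V x) =
        scMap Φ (Formal2.quotPowπ A I M'' n) V (scMap Φ g V x) := fun n V x =>
    scMap_congr Φ (eqg n) V x
  have htf : ∀ n, Formal2.quotPowTrans A I M n ∘ₗ qf (n + 1) = qf n ∘ₗ Formal2.quotPowTrans A I M' n := fun n =>
    Submodule.linearMap_qext _ rfl
  have hπt : ∀ n, Formal2.quotPowTrans A I M' n ∘ₗ Formal2.quotPowπ A I M' (n + 1) = Formal2.quotPowπ A I M' n :=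
    fun n => rfl
  refine ⟨fun V hV x hx => ?_, fun y hy => ?_⟩
  · obtain ⟨V', hV', hres⟩ := h.1 V hV (scMap Φ f V x) (fun n => by rw [← hqf, hx, map_zero])
    refine ⟨V', hV', hinj f hf V' ?_⟩
    rw [← scRes_scMap, hres, map_zero]
  · obtain ⟨V, hV, x, hx⟩ := h.2 (fun n => scMap Φ (qf n) U (y n)) (fun n => by
      rw [scMap_comp, htf, ← scMap_comp, hy])
    obtain ⟨V', hV', hgx⟩ := h''.1 V hV (scMap Φ g V x) (fun n => by
      have h0 : qg n ∘ₗ qf n = 0 := by
        refine Submodule.linearMap_qext _ (LinearMap.ext fun m => ?_)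
        show Submodule.Quotient.mk (g (f m)) = 0
        rw [show g (f m) = 0 from hfg.le ⟨m, rfl⟩]
        rfl
      rw [← hqg, ← hx n, ← scRes_scMap, scMap_comp, h0,
        ← map_zero (scRes Φ (Formal2.quotPow A I M'' n) hV.1)]
      congr 1
      exact hzero _ _)
    obtain ⟨x', hx'⟩ := hex f g hf hg hfg V' (scRes Φ M hV'.2 x) (by
      rw [← scRes_scMap, hgx])
    refine ⟨V', hV'.1, x', ?_⟩
    let d : ∀ n, Sc Φ (Formal2.quotPow A I M' n) V' := fun n =>
      scRes Φ _ hV'.1.1 (y n) - scMap Φ (Formal2.quotPowπ A I M' n) V' x'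
    have hd : ∀ n, scMap Φ (qf n) V' (d n) = 0 := fun n => by
      rw [map_sub, sub_eq_zero, hqf, hx', ← scRes_scMap, ← scRes_scMap, ← hx n,
        scRes_trans]
    have hdt : ∀ n, scMap Φ (Formal2.quotPowTrans A I M' n) V' (d (n + 1)) = d n := fun n => by
      rw [map_sub, ← scRes_scMap, hy, scMap_comp, hπt]
    obtain ⟨c, hc⟩ := Ideal.exists_pow_inf_eq_pow_smul I (LinearMap.range f)
    let T : ∀ n m : ℕ, n ≤ m → (Formal2.quotPow A I M' m →ₗ[A] Formal2.quotPow A I M' n) := fun n m h =>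
      Submodule.factor (Submodule.smul_mono_left (Ideal.pow_le_pow_right (by omega)))
    have hTid : ∀ n, T n n le_rfl = LinearMap.id := fun n => Submodule.linearMap_qext _ rfl
    have hTsucc : ∀ n m (h : n ≤ m), T n (m + 1) (h.trans (Nat.le_succ m)) =
        T n m h ∘ₗ Formal2.quotPowTrans A I M' m := fun n m h => by
      refine LinearMap.ext fun z => ?_
      obtain ⟨z, rfl⟩ := Submodule.Quotient.mk_surjective _ z
      simp only [T, Formal2.quotPowTrans, LinearMap.comp_apply, Submodule.mapQ_apply, LinearMap.id_apply]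
    have hT : ∀ n m (h : n ≤ m), scMap Φ (T n m h) V' (d m) = d n := by
      intro n m h
      induction h with
      | refl => rw [hTid]; exact scMap_id Φ V' (d n)
      | @step m h ih =>
        rw [hTsucc n m h, ← scMap_comp, hdt m]
        exact ih
    intro n
    rw [← sub_eq_zero]
    show d n = 0
    rw [← hT n (n + c) (Nat.le_add_right n c)]
    let r := (qf (n + c)).rangeRestrict
    have hker : LinearMap.ker r ≤ LinearMap.ker (T n (n + c) (Nat.le_add_right n c)) := by
      intro z hz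
      rw [LinearMap.ker_rangeRestrict, LinearMap.mem_ker] at hz
      obtain ⟨m, rfl⟩ := Submodule.Quotient.mk_surjective _ z
      have hfm : f m ∈ I ^ (n + c + 1) • (⊤ : Submodule A M) ⊓ LinearMap.range f :=
        ⟨(Submodule.Quotient.mk_eq_zero _).1 hz, ⟨m, rfl⟩⟩
      rw [hc (n + c + 1) (by omega), show n + c + 1 - c = n + 1 by omega] at hfm
      have h2 : f m ∈ Submodule.map f (I ^ (n + 1) • (⊤ : Submodule A M')) := by
        rw [Submodule.map_smul'', Submodule.map_top]
        exact Submodule.smul_mono le_rfl inf_le_right hfm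
      obtain ⟨m', hm', he⟩ := h2
      exact (Submodule.Quotient.mk_eq_zero _).2 (hf he ▸ hm')
    obtain ⟨ψ, hψ⟩ : ∃ ψ : LinearMap.range (qf (n + c)) →ₗ[A] Formal2.quotPow A I M' n, ψ ∘ₗ r = T n (n + c) (Nat.le_add_right n c) := by
      let e := LinearMap.quotKerEquivOfSurjective r (qf (n + c)).surjective_rangeRestrict
      refine ⟨(LinearMap.ker r).liftQ _ hker ∘ₗ e.symm.toLinearMap, LinearMap.ext fun z => ?_⟩
      show (LinearMap.ker r).liftQ _ hker (e.symm (r z)) = T n (n + c) (Nat.le_add_right n c) z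
      rw [show r z = e (Submodule.Quotient.mk z) from (LinearMap.quotKerEquivOfSurjective_apply_mk r _ z).symm,
        LinearEquiv.symm_apply_apply]
      rfl
    have hr : scMap Φ r V' (d (n + c)) = 0 := by
      refine hinj (LinearMap.range (qf (n + c))).subtype Subtype.val_injective V' ?_
      rw [scMap_comp, map_zero]
      exact hd (n + c)
    rw [← hψ, ← scMap_comp, hr, map_zero]

end Abstract

end Groth.Agent.H24Formal2
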