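import Groth.Prelude.Def_Formal2
import Groth.Agent.H24Adic.Basic
import Mathlib.Algebra.Homology.DerivedCategory.Ext.ExactSequences

/-!
# Formal functions for a derived functor, when a principal ideal kills the higher terms

For an exact functor `S` from modules to an abelian category and an object `Q`, if powers of `f` kill
`Ext^i(Q, S M)` and `Ext^(i+1)(Q, S M)` then `Ext^i(Q, S M)` is the limit of the `Ext^i(Q, S (M/f^n M))`.
-/

set_option autoImplicit false
set_option linter.style.haveILetI false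
set_option linter.unusedSectionVars false

universe u w v

open CategoryTheory CategoryTheory.Limits CategoryTheory.Abelian

namespace Groth.Agent.H24Formal2.Gen

variable {A : Type u} [CommRing A] {𝒞 : Type v} [Category.{w} 𝒞] [Abelian 𝒞] [HasExt.{u} 𝒞]
  (S : ModuleCat.{u} A ⥤ 𝒞) (Q : 𝒞)
variable {M N P : Type u} [AddCommGroup M] [Module A M] [AddCommGroup N] [Module A N] [AddCommGroup P] [Module A P]

/-- `Ext^i(Q, S M)`. -/
abbrev H (M : Type u) [AddCommGroup M] [Module A M] (i : ℕ) : Type u := Ext Q (S.obj (ModuleCat.of A M)) i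

/-- Functoriality in the module. -/
noncomputable abbrev hm (φ : M →ₗ[A] N) (i : ℕ) : H S Q M i →+ H S Q N i :=
  (Ext.mk₀ (S.map (ModuleCat.ofHom φ))).postcomp Q (add_zero i)

theorem hm_comp (φ : M →ₗ[A] N) (ψ : N →ₗ[A] P) (i : ℕ) (x : H S Q M i) :
    hm S Q ψ i (hm S Q φ i x) = hm S Q (ψ ∘ₗ φ) i x := by
  show (Ext.comp x (Ext.mk₀ _) (add_zero i)).comp (Ext.mk₀ _) (add_zero i) = Ext.comp x (Ext.mk₀ _) (add_zero i)
  rw [Ext.comp_assoc_of_second_deg_zero, Ext.mk₀_comp_mk₀, ← S.map_comp]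
  rfl

theorem hm_id (i : ℕ) (x : H S Q M i) : hm S Q (LinearMap.id : M →ₗ[A] M) i x = x := by
  show Ext.comp x (Ext.mk₀ (S.map (𝟙 (ModuleCat.of A M)))) (add_zero i) = x
  rw [S.map_id, Ext.comp_mk₀_id]

variable (A) in
/-- Multiplication by a scalar. -/
abbrev sm (c : A) (M : Type u) [AddCommGroup M] [Module A M] : M →ₗ[A] M := c • LinearMap.id

variable (A)

theorem mem_span_pow_smul_top_iff (f : A) (n : ℕ) (x : M) :
    x ∈ (Ideal.span {f} ^ n • ⊤ : Submodule A M) ↔ ∃ y : M, f ^ n • y = x := by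
  rw [Ideal.span_singleton_pow, Submodule.ideal_span_singleton_smul, Submodule.mem_smul_pointwise_iff_exists]
  simp

/-- The reduction modulo `f^c`-torsion. -/
abbrev tf (f : A) (M : Type u) [AddCommGroup M] [Module A M] (c : ℕ) : Type u :=
  M ⧸ LinearMap.ker (f ^ c • LinearMap.id : M →ₗ[A] M)

/-- Multiplication by `f^(c+d)` on the reduction. -/
noncomputable def mulTF (f : A) (c d : ℕ) : tf A f M c →ₗ[A] M :=
  Submodule.liftQ _ (f ^ (c + d) • LinearMap.id) fun x hx => by
    have h : f ^ c • x = 0 := hx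
    show f ^ (c + d) • x = 0
    rw [pow_add, mul_comm, mul_smul, h, smul_zero]

theorem mulTF_mk (f : A) (c d : ℕ) (x : M) : mulTF A f c d (Submodule.Quotient.mk x) = f ^ (c + d) • x := rfl

theorem mulTF_injective (f : A) (c d : ℕ) (hc : ∀ (k : ℕ) (x : M), f ^ k • x = 0 → f ^ c • x = 0) :
    Function.Injective (mulTF A (M := M) f c d) := by
  refine (injective_iff_map_eq_zero _).2 fun q hq => ?_
  obtain ⟨x, rfl⟩ := Submodule.Quotient.mk_surjective _ q
  exact (Submodule.Quotient.mk_eq_zero _).2 (hc _ x hq)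

theorem exact_mulTF (f : A) (c d n : ℕ) (hn : c + d = n + 1) :
    Function.Exact (mulTF A (M := M) f c d) (Formal2.quotPowπ A (Ideal.span {f}) M n) := fun y => by
  rw [Submodule.mkQ_apply, Submodule.Quotient.mk_eq_zero, mem_span_pow_smul_top_iff, ← hn]
  refine ⟨fun ⟨z, hz⟩ => ⟨Submodule.Quotient.mk z, hz⟩, ?_⟩
  rintro ⟨q, rfl⟩
  obtain ⟨x, rfl⟩ := Submodule.Quotient.mk_surjective _ q
  exact ⟨x, rfl⟩

theorem exists_torsion_bound [IsNoetherianRing A] [Module.Finite A M] (f : A) :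
    ∃ c, ∀ (k : ℕ) (x : M), f ^ k • x = 0 → f ^ c • x = 0 := by
  let K : ℕ →o Submodule A M := ⟨fun k => LinearMap.ker (f ^ k • LinearMap.id : M →ₗ[A] M), fun k l hkl x hx => by
    have h : f ^ k • x = 0 := hx
    show f ^ l • x = 0
    rw [← Nat.sub_add_cancel hkl, pow_add, mul_smul, h, smul_zero]⟩
  obtain ⟨c, hc⟩ := monotone_stabilizes_iff_noetherian.2 (inferInstance : IsNoetherian A M) K
  refine ⟨c, fun k x hx => ?_⟩
  rcases le_total k c with h | h
  · exact K.monotone h hx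
  · exact (hc k h).ge hx

variable {A}

/-- The projection between truncations of arbitrary distance. -/
noncomputable def quotPowLE (I : Ideal A) (M : Type u) [AddCommGroup M] [Module A M] {n k : ℕ} (h : n ≤ k) :
    Formal2.quotPow A I M k →ₗ[A] Formal2.quotPow A I M n :=
  Submodule.factor (Submodule.smul_mono_left (Ideal.pow_le_pow_right (Nat.succ_le_succ h)))

theorem quotPowLE_π (I : Ideal A) {n k : ℕ} (h : n ≤ k) :
    quotPowLE I M h ∘ₗ Formal2.quotPowπ A I M k = Formal2.quotPowπ A I M n := rfl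

theorem quotPowTrans_π (I : Ideal A) (n : ℕ) :
    Formal2.quotPowTrans A I M n ∘ₗ Formal2.quotPowπ A I M (n + 1) = Formal2.quotPowπ A I M n := rfl

theorem quotPowLE_refl (I : Ideal A) (n : ℕ) : quotPowLE I M (le_refl n) = LinearMap.id :=
  Submodule.linearMap_qext _ (LinearMap.ext fun _ => rfl)

theorem quotPowLE_succ (I : Ideal A) {n k : ℕ} (h : n ≤ k) (h' : n ≤ k + 1) :
    quotPowLE I M h' = quotPowLE I M h ∘ₗ Formal2.quotPowTrans A I M k := by
  refine LinearMap.ext fun q => ?_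
  induction q using Submodule.Quotient.induction_on with
  | H x =>
    rw [LinearMap.comp_apply, Formal2.quotPowTrans, Submodule.mapQ_apply, LinearMap.id_apply, quotPowLE, quotPowLE]
    exact (Submodule.factor_mk _ x).trans (Submodule.factor_mk _ x).symm

theorem compat_le (I : Ideal A) (i : ℕ) (y : ∀ n, H S Q (Formal2.quotPow A I M n) i)
    (hy : ∀ n, hm S Q (Formal2.quotPowTrans A I M n) i (y (n + 1)) = y n) {n k : ℕ} (h : n ≤ k) :
    hm S Q (quotPowLE I M h) i (y k) = y n := by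
  induction k, h using Nat.le_induction with
  | base => exact (congrArg (fun φ => hm S Q φ i (y n)) (quotPowLE_refl I n)).trans (hm_id S Q i _)
  | succ k hk ih =>
    exact (congrArg (fun φ => hm S Q φ i (y (k + 1))) (quotPowLE_succ I hk _)).trans
      ((hm_comp S Q _ _ i _).symm.trans ((congrArg (hm S Q (quotPowLE I M hk) i) (hy k)).trans ih))

theorem shortExact_map [PreservesFiniteLimits S] [PreservesFiniteColimits S] [S.Additive]
    (φ : M →ₗ[A] N) (ψ : N →ₗ[A] P) (hφ : Function.Injective φ) (hψ : Function.Surjective ψ)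
    (h : Function.Exact φ ψ) :
    ∃ w, (ShortComplex.mk (S.map (ModuleCat.ofHom φ)) (S.map (ModuleCat.ofHom ψ)) w).ShortExact := by
  let T : ShortComplex (ModuleCat.{u} A) := ShortComplex.mk (ModuleCat.ofHom φ) (ModuleCat.ofHom ψ)
    (ModuleCat.hom_ext (LinearMap.ext fun m => h.apply_apply_eq_zero m))
  have hT : T.ShortExact := ShortComplex.ShortExact.mk'
    ((ShortComplex.moduleCat_exact_iff T).2 fun y hy => (h y).1 hy)
    ((ModuleCat.mono_iff_injective _).2 hφ) ((ModuleCat.epi_iff_surjective _).2 hψ)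
  exact ⟨_, hT.map_of_exact S⟩

variable [PreservesFiniteLimits S] [PreservesFiniteColimits S] [S.Additive]
variable {S Q} {f : A} {c : ℕ} (hc : ∀ (k : ℕ) (x : M), f ^ k • x = 0 → f ^ c • x = 0)

set_option quotPrecheck false in
local notation "Jf" => Ideal.span ({f} : Set A)

include hc in
/-- A class vanishing modulo `f^(c+d)` is divisible by `f^d`. -/
theorem exists_div {i d n : ℕ} (hn : c + d = n + 1) (x : H S Q M i)
    (hx : hm S Q (Formal2.quotPowπ A Jf M n) i x = 0) :
    ∃ z, hm S Q (f ^ d • LinearMap.id) i z = x := by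
  obtain ⟨w, hS⟩ := shortExact_map S _ _ (mulTF_injective A f c d hc) (Submodule.mkQ_surjective _) (exact_mulTF A f c d n hn)
  obtain ⟨q, hq⟩ := Ext.covariant_sequence_exact₂ _ hS x hx
  refine ⟨hm S Q (mulTF A f c 0) i q, ?_⟩
  rw [hm_comp]
  have e : (f ^ d • LinearMap.id) ∘ₗ mulTF A (M := M) f c 0 = mulTF A f c d := LinearMap.ext fun q => by
    obtain ⟨y, rfl⟩ := Submodule.Quotient.mk_surjective _ q
    show f ^ d • (f ^ (c + 0) • y) = f ^ (c + d) • y
    rw [smul_smul, ← pow_add, add_zero, add_comm d]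
  rw [e]
  exact hq

include hc in
/-- Compatible families lift, when `f^m` kills the cohomology one degree up. -/
theorem exists_lift {i m : ℕ} (hH : ∀ x : H S Q M (i + 1), hm S Q (f ^ m • LinearMap.id) (i + 1) x = 0)
    (y : ∀ n, H S Q (Formal2.quotPow A Jf M n) i)
    (hy : ∀ n, hm S Q (Formal2.quotPowTrans A Jf M n) i (y (n + 1)) = y n) (n : ℕ) :
    ∃ x, hm S Q (Formal2.quotPowπ A Jf M n) i x = y n := by
  suffices h : ∀ n, c ≤ n + 1 → ∃ x, hm S Q (Formal2.quotPowπ A Jf M n) i x = y n by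
    obtain ⟨x, hx⟩ := h (n + c) (by omega)
    refine ⟨x, ?_⟩
    rw [← compat_le S Q Jf i y hy (Nat.le_add_right n c), ← hx, hm_comp, quotPowLE_π]
  intro n hn
  obtain ⟨d, hd⟩ := Nat.exists_eq_add_of_le hn
  have hn' : c + (d + (m + c)) = n + (m + c) + 1 := by omega
  obtain ⟨w, hS⟩ := shortExact_map S _ _ (mulTF_injective A f c d hc) (Submodule.mkQ_surjective _) (exact_mulTF A f c d n hd.symm)
  obtain ⟨w', hS'⟩ := shortExact_map S _ _ (mulTF_injective A f c (d + (m + c)) hc) (Submodule.mkQ_surjective _)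
    (exact_mulTF A f c (d + (m + c)) (n + (m + c)) hn')
  let T : (ShortComplex.mk _ _ w') ⟶ (ShortComplex.mk _ _ w) :=
    { τ₁ := S.map (ModuleCat.ofHom (sm A (f ^ (m + c)) (tf A f M c)))
      τ₂ := 𝟙 _
      τ₃ := S.map (ModuleCat.ofHom (quotPowLE Jf M (Nat.le_add_right n (m + c))))
      comm₁₂ := by
        refine ((S.map_comp _ _).symm.trans ?_).trans (Category.comp_id _).symm
        refine congrArg (fun g => S.map (ModuleCat.ofHom g)) (LinearMap.ext fun q => ?_)
        obtain ⟨x, rfl⟩ := Submodule.Quotient.mk_surjective _ q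
        show mulTF A f c d (f ^ (m + c) • Submodule.Quotient.mk x) = f ^ (c + (d + (m + c))) • x
        rw [map_smul, mulTF_mk, smul_smul, ← pow_add]
        congr 2
        omega
      comm₂₃ := by
        refine (Category.id_comp _).trans (Eq.trans ?_ (S.map_comp _ _))
        rfl }
  refine Ext.covariant_sequence_exact₃ _ hS (y n) (rfl : i + 1 = i + 1) ?_
  rw [← compat_le S Q Jf i y hy (Nat.le_add_right n (m + c))]
  show ((y (n + (m + c))).comp (Ext.mk₀ T.τ₃) (add_zero i)).comp hS.extClass rfl = 0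
  refine (Ext.comp_assoc_of_second_deg_zero (y (n + (m + c))) (Ext.mk₀ T.τ₃) hS.extClass rfl).trans ?_
  refine (congrArg (fun z => Ext.comp (y (n + (m + c))) z (rfl : i + 1 = i + 1))
    (ShortComplex.ShortExact.extClass_naturality hS' hS T).symm).trans ?_
  refine (Ext.comp_assoc_of_third_deg_zero (y (n + (m + c))) hS'.extClass (Ext.mk₀ T.τ₁) rfl).symm.trans ?_
  show hm S Q (sm A (f ^ (m + c)) (tf A f M c)) (i + 1) _ = 0
  have e : sm A (f ^ (m + c)) (tf A f M c) =
      (LinearMap.ker (f ^ c • LinearMap.id : M →ₗ[A] M)).mkQ ∘ₗ (f ^ m • LinearMap.id) ∘ₗ mulTF A f c 0 :=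
    LinearMap.ext fun q => by
      obtain ⟨x, rfl⟩ := Submodule.Quotient.mk_surjective _ q
      show Submodule.Quotient.mk (f ^ (m + c) • x) = Submodule.Quotient.mk (f ^ m • f ^ (c + 0) • x)
      rw [smul_smul, ← pow_add, add_zero]
  rw [e, ← hm_comp, ← hm_comp, hH, map_zero]

include hc in
/-- Positive degree: bijectivity. -/
theorem bijective_of_killed {i m : ℕ}
    (hH₀ : ∀ x : H S Q M i, hm S Q (f ^ m • LinearMap.id) i x = 0)
    (hH₁ : ∀ x : H S Q M (i + 1), hm S Q (f ^ m • LinearMap.id) (i + 1) x = 0) :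
    (∀ x x' : H S Q M i, (∀ n, hm S Q (Formal2.quotPowπ A Jf M n) i x = hm S Q (Formal2.quotPowπ A Jf M n) i x') → x = x') ∧
    ∀ y : ∀ n, H S Q (Formal2.quotPow A Jf M n) i, (∀ n, hm S Q (Formal2.quotPowTrans A Jf M n) i (y (n + 1)) = y n) →
      ∃ x : H S Q M i, ∀ n, hm S Q (Formal2.quotPowπ A Jf M n) i x = y n := by
  have hinj : ∀ x, hm S Q (Formal2.quotPowπ A Jf M (c + m)) i x = 0 → x = 0 := fun x hx => by
    obtain ⟨z, rfl⟩ := exists_div hc (show c + (m + 1) = c + m + 1 by omega) x hx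
    have e : (f ^ (m + 1) • LinearMap.id : M →ₗ[A] M) = (f • LinearMap.id) ∘ₗ (f ^ m • LinearMap.id) :=
      LinearMap.ext fun x => by show f ^ (m + 1) • x = f • f ^ m • x; rw [smul_smul, ← pow_succ']
    rw [e, ← hm_comp, hH₀, map_zero]
  refine ⟨fun x x' h => sub_eq_zero.1 (hinj _ (by rw [map_sub, h, sub_self])), fun y hy => ?_⟩
  obtain ⟨x, hx⟩ := exists_lift hc hH₁ y hy (c + m)
  refine ⟨x, fun n => ?_⟩
  obtain ⟨x', hx'⟩ := exists_lift hc hH₁ y hy (c + m + n)
  have h : x' = x := sub_eq_zero.1 (hinj _ (by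
    rw [map_sub, hx, ← quotPowLE_π Jf (Nat.le_add_right (c + m) n), ← hm_comp, hx', compat_le S Q Jf i y hy, sub_self]))
  rw [← h, ← quotPowLE_π Jf (Nat.le_add_left n (c + m)), ← hm_comp, hx', compat_le S Q Jf i y hy]

variable {η : ∀ (M : Type u) [AddCommGroup M] [Module A M], M →+ H S Q M 0}
  (hη : ∀ {M N : Type u} [AddCommGroup M] [Module A M] [AddCommGroup N] [Module A N] (φ : M →ₗ[A] N) (m : M),
    hm S Q φ 0 (η M m) = η N (φ m))
  {T : Submodule A M} (hT : ∀ m, η M m = 0 ↔ m ∈ T)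

include hT in
theorem eq_zero_of_forall_η [IsNoetherianRing A] [IsAdicComplete Jf A] [Module.Finite A M] (x : H S Q M 0)
    (h : ∀ k : ℕ, ∃ m : M, x = η M (f ^ k • m)) : x = 0 := by
  choose g hg using h
  haveI : IsAdicComplete Jf (M ⧸ T) := H24Adic.isAdicComplete_of_finite _
  have h0 : (T).mkQ (f ^ 0 • g 0) = 0 := by
    refine IsHausdorff.haus (I := Jf) inferInstance _ fun k => ?_
    rw [SModEq.zero, mem_span_pow_smul_top_iff]
    refine ⟨(T).mkQ (g k), ?_⟩
    rw [← map_smul, ← sub_eq_zero, ← map_sub, Submodule.mkQ_apply, Submodule.Quotient.mk_eq_zero, ← hT,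
      map_sub, ← hg k, ← hg 0, sub_self]
  rw [hg 0, hT]
  exact (Submodule.Quotient.mk_eq_zero _).1 h0

include hc hη hT in
/-- Degree zero: bijectivity. -/
theorem bijective_zero [IsNoetherianRing A] [IsAdicComplete Jf A] [Module.Finite A M] {m : ℕ}
    (hH₀ : ∀ y : H S Q M 0, ∃ v : M, η M v = hm S Q (f ^ m • LinearMap.id) 0 y)
    (hH₁ : ∀ x : H S Q M 1, hm S Q (f ^ m • LinearMap.id) 1 x = 0) :
    (∀ x x' : H S Q M 0, (∀ n, hm S Q (Formal2.quotPowπ A Jf M n) 0 x = hm S Q (Formal2.quotPowπ A Jf M n) 0 x') → x = x') ∧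
    ∀ y : ∀ n, H S Q (Formal2.quotPow A Jf M n) 0, (∀ n, hm S Q (Formal2.quotPowTrans A Jf M n) 0 (y (n + 1)) = y n) →
      ∃ x : H S Q M 0, ∀ n, hm S Q (Formal2.quotPowπ A Jf M n) 0 x = y n := by
  have hdiv : ∀ (x : H S Q M 0) (k : ℕ),
      hm S Q (Formal2.quotPowπ A Jf M (c + m + k)) 0 x = 0 → ∃ v : M, x = η M (f ^ k • v) := by
    intro x k hx
    obtain ⟨z, rfl⟩ := exists_div hc (show c + (m + k + 1) = c + m + k + 1 by omega) x hx
    obtain ⟨v, hv⟩ := hH₀ z
    refine ⟨f • v, ?_⟩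
    have e : (f ^ (m + k + 1) • LinearMap.id : M →ₗ[A] M) = (f ^ (k + 1) • LinearMap.id) ∘ₗ (f ^ m • LinearMap.id) :=
      LinearMap.ext fun x => by
        show f ^ (m + k + 1) • x = f ^ (k + 1) • f ^ m • x
        rw [smul_smul, ← pow_add, show k + 1 + m = m + k + 1 by omega]
    rw [e, ← hm_comp, ← hv, hη]
    congr 1
    show f ^ (k + 1) • v = f ^ k • f • v
    rw [smul_smul, ← pow_succ]
  refine ⟨fun x x' h => sub_eq_zero.1 (eq_zero_of_forall_η hT _ fun k => hdiv _ k (by rw [map_sub, h, sub_self])),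
    fun y hy => ?_⟩
  choose s hs using fun k => exists_lift hc hH₁ y hy (c + m + k)
  have hstep : ∀ k, ∃ v : M, s (k + 1) - s k = η M (f ^ k • v) := fun k => hdiv _ k (by
    rw [map_sub, hs, sub_eq_zero, ← quotPowLE_π Jf (show c + m + k ≤ c + m + (k + 1) by omega), ← hm_comp, hs,
      compat_le S Q Jf 0 y hy])
  choose v hv using hstep
  haveI : IsAdicComplete Jf M := H24Adic.isAdicComplete_of_finite _
  let p : ℕ → M := fun k => ∑ j ∈ Finset.range k, f ^ j • v j
  have hp : ∀ {k l : ℕ}, k ≤ l → p l - p k ∈ (Jf ^ k • ⊤ : Submodule A M) := fun {k l} hkl => by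
    induction l, hkl using Nat.le_induction with
    | base => rw [sub_self]; exact zero_mem _
    | succ l hl ih =>
      rw [show p (l + 1) = p l + f ^ l • v l from Finset.sum_range_succ _ _, add_sub_right_comm]
      refine add_mem ih ((mem_span_pow_smul_top_iff A f k _).2 ⟨f ^ (l - k) • v l, ?_⟩)
      rw [smul_smul, ← pow_add, Nat.add_sub_cancel' hl]
  obtain ⟨t, ht⟩ := IsPrecomplete.prec (I := Jf) inferInstance (f := p)
    (fun {k l} hkl => (SModEq.sub_mem.2 (hp hkl)).symm)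
  have hsk : ∀ k, s k = s 0 + η M (p k) := fun k => by
    induction k with
    | zero => simp [p]
    | succ k ih => rw [show p (k + 1) = p k + f ^ k • v k from Finset.sum_range_succ _ _, map_add, ← hv, ← add_assoc, ← ih,
        add_sub_cancel]
  refine ⟨s 0 + η M t, fun n => ?_⟩
  obtain ⟨w, hw⟩ := (mem_span_pow_smul_top_iff A f (n + 1) _).1 (SModEq.sub_mem.1 (ht (n + 1)).symm)
  have hx : s 0 + η M t = s (n + 1) + η M (f ^ (n + 1) • w) := by
    rw [hw, hsk (n + 1), map_sub]; abel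
  have h0 : Formal2.quotPowπ A Jf M n (f ^ (n + 1) • w) = 0 :=
    (Submodule.Quotient.mk_eq_zero _).2 ((mem_span_pow_smul_top_iff A f (n + 1) _).2 ⟨w, rfl⟩)
  rw [hx, map_add, hη, h0, map_zero, add_zero, ← quotPowLE_π Jf (show n ≤ c + m + (n + 1) by omega),
    ← hm_comp, hs, compat_le S Q Jf 0 y hy]

end Groth.Agent.H24Formal2.Gen
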