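import Groth.Agent.H24Formal2.SectionsH0
import Groth.Agent.H4PSect.Punctured
import Groth.Agent.H4LC.Transform
import Groth.Agent.H4LC.LC
import Groth.Agent.H15Site.EdgeBase
import Groth.Agent.S0356

/-!
# Multiplication by a scalar on the cohomology of a punctured spectrum

If an element kills local cohomology, it kills the cohomology of the punctured spectrum one degree down.
-/

set_option autoImplicit false
set_option linter.style.haveILetI false
set_option linter.unusedSectionVars false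

universe u

open CategoryTheory CategoryTheory.Limits AlgebraicGeometry Opposite CategoryTheory.Abelian TopologicalSpace

namespace Groth.Agent.H24Formal2

attribute [local instance 10000] H10Coh.hasSheafifyAb H10Coh.hasWeakSheafifyAb H10Coh.hasExtAb H10Coh.enoughInjAb

variable (A : Type u) [CommRing A]
variable {M N : Type u} [AddCommGroup M] [Module A M] [AddCommGroup N] [Module A N]

/-- Sections over `V` of `M~` as an `A`-module. -/
noncomputable abbrev Sm (M : Type u) [AddCommGroup M] [Module A M] (V : (Spec (CommRingCat.of A)).Opens) :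
    ModuleCat.{u} A :=
  H4PSect.S (R := CommRingCat.of A) (ModuleCat.of A M) V

/-- The map on sections. -/
noncomputable def SmMap (φ : M →ₗ[A] N) (V : (Spec (CommRingCat.of A)).Opens) : Sm A M V →ₗ[A] Sm A N V :=
  ((modulesSpecToSheaf.map (tilde.map (R := CommRingCat.of A) (ModuleCat.ofHom φ))).1.app (op V)).hom

/-- A module maps to the sections of its sheaf. -/
noncomputable def toSm (M : Type u) [AddCommGroup M] [Module A M] (V : (Spec (CommRingCat.of A)).Opens) :
    M →ₗ[A] Sm A M V :=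
  (tilde.toOpen (R := CommRingCat.of A) (ModuleCat.of A M) V).hom

theorem SmMap_toSm (φ : M →ₗ[A] N) (V : (Spec (CommRingCat.of A)).Opens) (m : M) :
    SmMap A φ V (toSm A M V m) = toSm A N V (φ m) :=
  congr($(tilde.toOpen_map_app (R := CommRingCat.of A) (ModuleCat.ofHom φ) (U := V)).hom m)

/-- `H^0` is sections. -/
theorem exists_sectEquiv (V : (Spec (CommRingCat.of A)).Opens) :
    ∃ e : ∀ (M : Type u) [AddCommGroup M] [Module A M], Formal2.HV A M 0 V ≃+ Sm A M V,
      ∀ {M N : Type u} [AddCommGroup M] [Module A M] [AddCommGroup N] [Module A N] (φ : M →ₗ[A] N)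
        (x : Formal2.HV A M 0 V), e N (Formal2.HVmap A φ 0 V x) = SmMap A φ V (e M x) := by
  let J := Opens.grothendieckTopology (Spec (CommRingCat.of A)).toTopCat
  refine ⟨fun M _ _ => Ext.addEquiv₀.trans
    (CohFree.homEquivSect J V (Coh.toAb (Formal2.tmod A M))), fun {M N} _ _ _ _ φ x => ?_⟩
  obtain ⟨ψ, hψ⟩ := (Ext.mk₀_bijective (CohCx.freeSheaf J V) (Coh.toAb (Formal2.tmod A M))).2 x
  subst hψ
  have h1 : ∀ {F : CohTop.Ab (Spec (CommRingCat.of A)).toTopCat} (g : CohCx.freeSheaf J V ⟶ F),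
      Ext.addEquiv₀ (Ext.mk₀ g) = g := fun g => Ext.addEquiv₀.apply_symm_apply g
  have h2 : Formal2.HVmap A φ 0 V (Ext.mk₀ ψ) =
      Ext.mk₀ (ψ ≫ (SheafOfModules.toSheaf _).map (Formal2.tmodMap A φ)) := Ext.mk₀_comp_mk₀ _ _
  rw [h2]
  refine (congrArg (CohFree.homEquivSect J V (Coh.toAb (Formal2.tmod A N))) (h1 _)).trans
    (Eq.trans ?_ (congrArg (fun g => SmMap A φ V (CohFree.homEquivSect J V (Coh.toAb (Formal2.tmod A M)) g)) (h1 ψ)).symm)
  rfl

variable [IsNoetherianRing A] (a : Ideal A)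

local notation "U" => LocCoh.puncturedOpen A a

theorem ker_toSm (m : M) : toSm A M U m = 0 ↔ m ∈ DRing.torsionSub a M := by
  haveI : IsNoetherianRing ↥(CommRingCat.of A) := ‹IsNoetherianRing A›
  have h := H4PSect.ker_toOpen (R := CommRingCat.of A) a (ModuleCat.of A M)
  have h2 : (⨆ n : ℕ, LocCoh.torsionBy (a ^ n) M) = DRing.torsionSub a M :=
    Submodule.ext fun x => H4PSect.mem_iSup_torsionBy a x
  rw [← h2, ← LinearMap.mem_ker]
  exact Iff.of_eq (congrArg (m ∈ ·) h)

theorem exists_pow_smul_mem (y : Sm A M U) : ∃ k : ℕ, ∀ r ∈ a ^ k, r • y ∈ LinearMap.range (toSm A M U) := by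
  haveI : IsNoetherianRing ↥(CommRingCat.of A) := ‹IsNoetherianRing A›
  obtain ⟨k, hk⟩ := H4PSect.isPowerTorsion_coker_toOpen (R := CommRingCat.of A) a (ModuleCat.of A M)
    (Submodule.Quotient.mk y)
  exact ⟨k, fun r hr => (Submodule.Quotient.mk_eq_zero _).1 (hk r hr)⟩

theorem eq_zero_of_pow_smul_eq_zero (y : Sm A M U) {k : ℕ} (hy : ∀ r ∈ a ^ k, r • y = 0) : y = 0 := by
  haveI : IsNoetherianRing ↥(CommRingCat.of A) := ‹IsNoetherianRing A›
  have h : y ∈ (⨆ n : ℕ, LocCoh.torsionBy (a ^ n) (Sm A M U)) := (H4PSect.mem_iSup_torsionBy a y).2 ⟨k, hy⟩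
  exact (Submodule.mem_bot (R := A)).1 ((H4PSect.iSup_torsionBy_P (R := CommRingCat.of A) a (ModuleCat.of A M)).le h)

/-- Multiplication on the module induces multiplication on the sections. -/
theorem SmMap_smul_id (c : A) (y : Sm A M U) : SmMap A (c • (LinearMap.id : M →ₗ[A] M)) U y = c • y := by
  obtain ⟨k, hk⟩ := exists_pow_smul_mem A a y
  refine sub_eq_zero.1 (eq_zero_of_pow_smul_eq_zero A a _ (k := k) fun r hr => ?_)
  obtain ⟨m, hm⟩ := hk r hr
  rw [smul_sub, sub_eq_zero, ← map_smul, ← hm, SmMap_toSm, smul_comm, ← hm, LinearMap.smul_apply,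
    LinearMap.id_apply, map_smul]

/-- An element killing `H^1_a` kills the cokernel of `M → Γ(U, M~)`. -/
theorem exists_toSm_eq (c : A) (hc : ∀ x : LocCoh.H a 1 M, c • x = 0) (y : Sm A M U) :
    ∃ m : M, toSm A M U m = c • y := by
  obtain ⟨ψ, hψ, -⟩ := H4LC.existsUnique_factor a M (toSm A M U)
    (fun m hm => (ker_toSm A a m).1 hm)
    (fun q => by
      obtain ⟨y, rfl⟩ := Submodule.Quotient.mk_surjective _ q
      obtain ⟨k, hk⟩ := exists_pow_smul_mem A a y
      exact ⟨k, fun r hr => (Submodule.Quotient.mk_eq_zero _).2 (hk r hr)⟩) (LinearMap.id : M →ₗ[A] M)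
  have hψ' : ∀ m, ψ (toSm A M U m) = LocCoh.toDT a M m := fun m => LinearMap.congr_fun hψ m
  have hinj : Function.Injective ψ := (injective_iff_map_eq_zero ψ).2 fun z hz => by
    obtain ⟨k, hk⟩ := exists_pow_smul_mem A a z
    refine eq_zero_of_pow_smul_eq_zero A a z (k := k) fun r hr => ?_
    obtain ⟨m, hm⟩ := hk r hr
    rw [← hm, ker_toSm, ← H4LC.ker_toDT a M, LinearMap.mem_ker, ← hψ', hm, map_smul, hz, smul_zero]
  have h0 : c • (Submodule.Quotient.mk (ψ y) : LocCoh.DT a M ⧸ LinearMap.range (LocCoh.toDT a M)) = 0 :=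
    (H4LC.cokerToDTEquiv a M).injective (by rw [map_smul, map_zero, hc])
  obtain ⟨m, hm⟩ := (Submodule.Quotient.mk_eq_zero _).1 ((Submodule.Quotient.mk_smul _ c (ψ y)).trans h0)
  exact ⟨m, hinj (by rw [hψ', hm, map_smul])⟩

end Groth.Agent.H24Formal2
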